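import Cfsg.Agent.Lib.RankTwoModel.L4.Arith

/-!
The arithmetic used for the safety of the elements of the inverted core: with `N` the index of the centraliser,
`N (B + Q)² = i² Q (Q + 1)³ B (B - 1)` forces `(B + Q) k = i Q (Q + 1)²` for an odd `k` prime to `i`; when the
characteristic divides `i` this bounds `i`, `k` and `N`.
-/

set_option autoImplicit false
set_option linter.unusedSectionVars false
set_option linter.style.haveILetI false

namespace CfsgLib.RankTwoModel.L4.Safety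

variable {N i : ℕ} {Q B : ℤ}

/-- The valuation of a difference. -/
theorem le_padic_sub {r : ℕ} [Fact r.Prime] {y w : ℤ} (hyw : y - w ≠ 0) :
    min (padicValInt r y) (padicValInt r w) ≤ padicValInt r (y - w) := by
  refine ((padicValInt_dvd_iff _ _).1 (dvd_sub ?_ ?_)).resolve_left hyw
  · exact (pow_dvd_pow _ (min_le_left _ _)).trans (padicValInt_dvd _)
  · exact (pow_dvd_pow _ (min_le_right _ _)).trans (padicValInt_dvd _)

/-- The valuation of a difference of unequal valuations. -/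
theorem padic_sub_eq {r : ℕ} [Fact r.Prime] {y w : ℤ} (hw : w ≠ 0) (hyw : y - w ≠ 0)
    (h : padicValInt r w < padicValInt r y) : padicValInt r (y - w) = padicValInt r w := by
  refine le_antisymm ?_ ((min_eq_right h.le) ▸ le_padic_sub hyw)
  by_contra hgt
  have h1 := le_padic_sub (r := r) (y := y) (w := y - w) (by rw [sub_sub_cancel]; exact hw)
  rw [sub_sub_cancel] at h1
  omega

/-- **The valuation of `B + Q`**: at most that of `i Q (Q + 1)²`, equal where it is determined. -/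
theorem padic_x {r : ℕ} [hr : Fact r.Prime] (hN0 : N ≠ 0) (hi : i ≠ 0) (hQ : Q ≠ 0) (hQ1 : Q + 1 ≠ 0) (hB : B ≠ 0)
    (hB1 : B ≠ 1) (hN : (N : ℤ) * (B + Q) ^ 2 = (i : ℤ) ^ 2 * (Q * (Q + 1) ^ 3 * B * (B - 1))) :
    padicValInt r (B + Q) ≤ padicValNat r i + padicValInt r Q + 2 * padicValInt r (Q + 1) ∧
      (padicValNat r N = 0 → (r ∣ i ∨ (r = 2 ∧ (2 : ℤ) ∣ Q + 1)) →
        padicValInt r (B + Q) = padicValNat r i + padicValInt r Q + 2 * padicValInt r (Q + 1)) := by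
  have hi0 : (i : ℤ) ≠ 0 := Int.natCast_ne_zero.2 hi
  have hN0' : (N : ℤ) ≠ 0 := Int.natCast_ne_zero.2 hN0
  have hB1' : B - 1 ≠ 0 := sub_ne_zero.2 hB1
  set x := B + Q with hx
  have hx0 : x ≠ 0 := fun e => by
    rw [e, show (N : ℤ) * 0 ^ 2 = 0 by ring] at hN
    exact mul_ne_zero (pow_ne_zero 2 hi0) (mul_ne_zero (mul_ne_zero (mul_ne_zero hQ (pow_ne_zero 3 hQ1)) hB) hB1')
      hN.symm
  have h := congrArg (padicValInt r) hN
  rw [pow_succ (Q + 1) 2, sq, sq, sq, padicValInt.mul hN0' (mul_ne_zero hx0 hx0), padicValInt.mul hx0 hx0,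
    padicValInt.mul (mul_ne_zero hi0 hi0)
      (mul_ne_zero (mul_ne_zero (mul_ne_zero hQ (mul_ne_zero (mul_ne_zero hQ1 hQ1) hQ1)) hB) hB1'),
    padicValInt.mul hi0 hi0, padicValInt.mul (mul_ne_zero (mul_ne_zero hQ (mul_ne_zero (mul_ne_zero hQ1 hQ1) hQ1)) hB) hB1',
    padicValInt.mul (mul_ne_zero hQ (mul_ne_zero (mul_ne_zero hQ1 hQ1) hQ1)) hB,
    padicValInt.mul hQ (mul_ne_zero (mul_ne_zero hQ1 hQ1) hQ1), padicValInt.mul (mul_ne_zero hQ1 hQ1) hQ1,
    padicValInt.mul hQ1 hQ1, padicValInt.of_nat, padicValInt.of_nat] at h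
  have eB : B = x - Q := by rw [hx]; ring
  have eB1 : B - 1 = x - (Q + 1) := by rw [hx]; ring
  have l1 := le_padic_sub (r := r) (y := x) (w := Q) (by rwa [← eB])
  have l2 := le_padic_sub (r := r) (y := x) (w := Q + 1) (by rwa [← eB1])
  have m1 : padicValInt r Q < padicValInt r x → padicValInt r (x - Q) = padicValInt r Q :=
    padic_sub_eq hQ (by rwa [← eB])
  have m2 : padicValInt r (Q + 1) < padicValInt r x → padicValInt r (x - (Q + 1)) = padicValInt r (Q + 1) :=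
    padic_sub_eq hQ1 (by rwa [← eB1])
  rw [eB1, eB] at h
  have hone : padicValInt r Q = 0 ∨ padicValInt r (Q + 1) = 0 := by
    by_contra hne
    push Not at hne
    have d1 : (r : ℤ) ∣ Q := (dvd_pow_self _ hne.1).trans (padicValInt_dvd Q)
    have d2 : (r : ℤ) ∣ Q + 1 := (dvd_pow_self _ hne.2).trans (padicValInt_dvd (Q + 1))
    exact (Nat.prime_iff_prime_int.1 hr.out).not_isUnit (isUnit_of_dvd_one ((dvd_add_right d1).1 d2))
  refine ⟨?_, fun hvN hcase => ?_⟩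
  · by_contra hgt
    have := m1 (by omega)
    have := m2 (by omega)
    omega
  · have hpos : 1 ≤ padicValNat r i ∨ 1 ≤ padicValInt r (Q + 1) := by
      rcases hcase with hd | ⟨rfl, hd⟩
      · exact Or.inl (one_le_padicValNat_of_dvd hi hd)
      · exact Or.inr (((padicValInt_dvd_iff 1 _).1 (by simpa using hd)).resolve_left hQ1)
    rcases lt_or_ge (padicValInt r Q) (padicValInt r x) with a1 | a1 <;>
      rcases lt_or_ge (padicValInt r (Q + 1)) (padicValInt r x) with a2 | a2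
    · have := m1 a1
      have := m2 a2
      omega
    all_goals omega

/-- **The divisor.** -/
theorem exists_k (hN2 : Odd N) (hi : i ≠ 0) (hr : ∀ r : ℕ, r.Prime → r ∣ i → ¬ r ∣ N) (hQ : Q ≠ 0)
    (hQ1 : Q + 1 ≠ 0) (h4 : (4 : ℤ) ∣ Q + 1) (hB : B ≠ 0) (hB1 : B ≠ 1) {C : ℤ}
    (hC : C * (Q ^ 2 - B) = Q ^ 2 * (B - 1))
    (hN : (N : ℤ) * (B + Q) ^ 2 = (i : ℤ) ^ 2 * (Q * (Q + 1) ^ 3 * B * (B - 1))) :
    ∃ k : ℤ, Odd k ∧ (∀ r : ℕ, r.Prime → r ∣ i → ¬ (r : ℤ) ∣ k) ∧ k ∣ Q * (Q + 1) ^ 2 ∧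
      k - i * (Q + 1) ∣ k * (Q * (Q - 1)) ∧
      (N : ℤ) = (i * (Q + 1) ^ 2 - k) * (i * Q * (Q + 1) - k) := by
  have hi0 : (i : ℤ) ≠ 0 := Int.natCast_ne_zero.2 hi
  have hN0 : N ≠ 0 := hN2.pos.ne'
  set y := (i : ℤ) * Q * (Q + 1) ^ 2 with hy
  have hy0 : y ≠ 0 := mul_ne_zero (mul_ne_zero hi0 hQ) (pow_ne_zero 2 hQ1)
  set x := B + Q with hx
  have hx0 : x ≠ 0 := fun e => by
    rw [e, show (N : ℤ) * 0 ^ 2 = 0 by ring] at hN
    exact mul_ne_zero (pow_ne_zero 2 hi0) (mul_ne_zero (mul_ne_zero (mul_ne_zero hQ (pow_ne_zero 3 hQ1)) hB)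
      (sub_ne_zero.2 hB1)) hN.symm
  have hvy : ∀ r : ℕ, r.Prime →
      padicValInt r y = padicValNat r i + padicValInt r Q + 2 * padicValInt r (Q + 1) := fun r hrp => by
    haveI := Fact.mk hrp
    rw [hy, sq, padicValInt.mul (mul_ne_zero hi0 hQ) (mul_ne_zero hQ1 hQ1), padicValInt.mul hi0 hQ,
      padicValInt.mul hQ1 hQ1, padicValInt.of_nat]
    omega
  obtain ⟨k, hk⟩ : x ∣ y := by
    rw [← Int.natAbs_dvd_natAbs, ← Nat.factorization_le_iff_dvd (Int.natAbs_ne_zero.2 hx0) (Int.natAbs_ne_zero.2 hy0)]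
    intro r
    by_cases hrp : r.Prime
    · haveI := Fact.mk hrp
      rw [Nat.factorization_def _ hrp, Nat.factorization_def _ hrp]
      show padicValInt r x ≤ padicValInt r y
      rw [hvy r hrp]
      exact (padic_x hN0 hi hQ hQ1 hB hB1 hN).1
    · rw [Nat.factorization_eq_zero_of_not_prime _ hrp]
      exact Nat.zero_le _
  have hk0 : k ≠ 0 := fun e => hy0 (by rw [hk, e, mul_zero])
  have hkr : ∀ r : ℕ, r.Prime → padicValNat r N = 0 → (r ∣ i ∨ (r = 2 ∧ (2 : ℤ) ∣ Q + 1)) → ¬ (r : ℤ) ∣ k := by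
    intro r hrp hvN hcase hd
    haveI := Fact.mk hrp
    have e := (padic_x hN0 hi hQ hQ1 hB hB1 hN).2 hvN hcase
    have e2 := congrArg (padicValInt r) hk
    rw [hvy r hrp, padicValInt.mul hx0 hk0] at e2
    rw [← hx] at e
    have := ((padicValInt_dvd_iff 1 k).1 (by simpa using hd)).resolve_left hk0
    omega
  have hko : Odd k := Int.not_even_iff_odd.1 fun he =>
    hkr 2 Nat.prime_two (padicValNat.eq_zero_of_not_dvd (Nat.two_dvd_ne_zero.2 (Nat.odd_iff.1 hN2)))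
      (Or.inr ⟨rfl, (by norm_num : (2 : ℤ) ∣ 4).trans h4⟩) (even_iff_two_dvd.1 he)
  have hki : ∀ r : ℕ, r.Prime → r ∣ i → ¬ (r : ℤ) ∣ k := fun r hrp hd =>
    hkr r hrp (padicValNat.eq_zero_of_not_dvd (hr r hrp hd)) (Or.inl hd)
  refine ⟨k, hko, hki, ?_, ?_, ?_⟩
  · have hcop : IsCoprime k (i : ℤ) := by
      rw [Int.isCoprime_iff_gcd_eq_one]
      refine Nat.coprime_of_dvd fun r hrp h1 h2 => hki r hrp (by simpa using h2) ?_
      exact Int.natCast_dvd.2 h1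
    refine hcop.dvd_of_dvd_mul_left ⟨x, ?_⟩
    rw [hy] at hk
    linear_combination hk
  · have h1 : Q * (Q + 1) - x ∣ Q ^ 2 * ((Q + 1) * (Q - 1)) := by
      refine ⟨C + Q ^ 2, ?_⟩
      rw [hx]
      linear_combination -hC
    have h2 : Q * (Q + 1) * (k - i * (Q + 1)) ∣ Q * (Q + 1) * (k * (Q * (Q - 1))) := by
      rw [show Q * (Q + 1) * (k - i * (Q + 1)) = k * (Q * (Q + 1) - x) by rw [hy] at hk; linear_combination -hk,
        show Q * (Q + 1) * (k * (Q * (Q - 1))) = k * (Q ^ 2 * ((Q + 1) * (Q - 1))) by ring]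
      exact mul_dvd_mul_left k h1
    exact (mul_dvd_mul_iff_left (mul_ne_zero hQ hQ1)).1 h2
  · have hkB : k * B = Q * (i * (Q + 1) ^ 2 - k) := by rw [hy, hx] at hk; linear_combination -hk
    have hkB1 : k * (B - 1) = (Q + 1) * (i * Q * (Q + 1) - k) := by rw [hy, hx] at hk; linear_combination -hk
    refine mul_right_cancel₀ (pow_ne_zero 2 hy0) ?_
    calc (N : ℤ) * y ^ 2 = k ^ 2 * ((N : ℤ) * x ^ 2) := by rw [hk]; ring
      _ = (i : ℤ) ^ 2 * (Q * (Q + 1) ^ 3 * ((k * B) * (k * (B - 1)))) := by rw [hN]; ring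
      _ = _ := by rw [hkB, hkB1, hy]; ring

/-- **The bounds in the characteristic of the field.** -/
theorem bounds {p n : ℕ} (hp : p.Prime) (hq : Q.natAbs = p ^ n) (hpi : p ∣ i) {k : ℤ} (hko : Odd k)
    (hki : ∀ r : ℕ, r.Prime → r ∣ i → ¬ (r : ℤ) ∣ k) (hk : k ∣ Q * (Q + 1) ^ 2)
    (hE : k - i * (Q + 1) ∣ k * (Q * (Q - 1))) (hQ1 : Q + 1 ≠ 0) (hQm : Q - 1 ≠ 0)
    (h4 : (4 : ℤ) ∣ Q + 1)
    (hN : (N : ℤ) = (i * (Q + 1) ^ 2 - k) * (i * Q * (Q + 1) - k)) :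
    16 * i ≤ 3 * (p ^ n + 1) ∧ 16 * N ≤ (p ^ n + 1) ^ 6 := by
  have hp' : Prime (p : ℤ) := Nat.prime_iff_prime_int.1 hp
  have hkp : ¬ (p : ℤ) ∣ k := hki p hp hpi
  have cop_pow : ∀ {a : ℤ}, ¬ (p : ℤ) ∣ a → IsCoprime a Q := fun {a} ha => by
    have h1 : IsCoprime a ((p : ℤ) ^ n) := ((hp'.coprime_iff_not_dvd.2 ha).symm).pow_right
    rcases Int.natAbs_eq_natAbs_iff.1 (show Q.natAbs = ((p : ℤ) ^ n).natAbs by rw [Int.natAbs_pow]; simpa using hq)
      with e | e <;> rw [e]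
    · exact h1
    · exact h1.neg_right
  set h0 := (Int.gcd k (Q + 1) : ℤ) with hh0
  obtain ⟨k', hk'⟩ : h0 ∣ k := Int.gcd_dvd_left _ _
  obtain ⟨m, hm⟩ : h0 ∣ Q + 1 := Int.gcd_dvd_right _ _
  have hh0' : h0 ≠ 0 := by
    rw [hh0, Int.natCast_ne_zero, Ne, Int.gcd_eq_zero_iff]
    exact fun e => hQ1 e.2
  have hcm : IsCoprime k' m := by
    obtain ⟨a, b, hab⟩ := exists_gcd_eq_mul_add_mul k (Q + 1)
    refine ⟨a, b, mul_left_cancel₀ hh0' ?_⟩
    linear_combination -(hh0.trans hab) - a * hk' - b * hm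
  have hk'h : k' ∣ h0 := by
    have h1 : k ∣ (Q + 1) ^ 2 := (cop_pow hkp).dvd_of_dvd_mul_left hk
    rw [hk', hm, mul_pow, sq h0, mul_assoc] at h1
    exact (hcm.pow_right (n := 2)).dvd_of_dvd_mul_right ((mul_dvd_mul_iff_left hh0').1 h1)
  set E := k' - i * m with hEdef
  have hk'p : ¬ (p : ℤ) ∣ k' := fun hd => hkp (hk' ▸ hd.mul_left _)
  have hEp : ¬ (p : ℤ) ∣ E := fun hd => hk'p (by
    have := dvd_add hd ((Int.natCast_dvd_natCast.2 hpi).mul_right m)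
    rwa [hEdef, sub_add_cancel] at this)
  have hcik : IsCoprime (i : ℤ) k' := by
    rw [Int.isCoprime_iff_gcd_eq_one]
    refine Nat.coprime_of_dvd fun r hrp h1 h2 => hki r hrp (by simpa using h1) ?_
    exact (Int.natCast_dvd.2 h2).trans (hk' ▸ dvd_mul_left k' h0)
  have hEk : IsCoprime E k' := by
    have h1 : IsCoprime ((i : ℤ) * m) k' := hcik.mul_left hcm.symm
    have := (h1.neg_left).add_mul_right_left 1
    rwa [one_mul, show -((i : ℤ) * m) + k' = E by rw [hEdef]; ring] at this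
  have hEQ : E ∣ Q - 1 := by
    rw [show k - i * (Q + 1) = h0 * E by rw [hEdef, hk', hm]; ring, hk', mul_assoc] at hE
    exact (cop_pow hEp).dvd_of_dvd_mul_left (hEk.dvd_of_dvd_mul_left ((mul_dvd_mul_iff_left hh0').1 hE))
  have hk'o : ¬ (2 : ℤ) ∣ k' := fun hd =>
    Int.not_even_iff_odd.2 hko (even_iff_two_dvd.2 (hk' ▸ hd.mul_left _))
  have hm4 : (4 : ℤ) ∣ m := by
    have hho : ¬ (2 : ℤ) ∣ h0 := fun hd =>
      Int.not_even_iff_odd.2 hko (even_iff_two_dvd.2 (hk' ▸ hd.mul_right _))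
    have h1 : IsCoprime ((2 : ℤ) ^ 2) h0 := ((Int.prime_two.coprime_iff_not_dvd).2 hho).pow_left
    exact h1.dvd_of_dvd_mul_left (by norm_num; rwa [← hm])
  -- sizes
  set q := p ^ n with hqdef
  have hQa : |Q| = q := by rw [Int.abs_eq_natAbs, hq]
  have hQ1a : |Q + 1| ≤ q + 1 := (abs_add_le Q 1).trans (by rw [hQa, abs_one])
  have hQma : |Q - 1| ≤ q + 1 := (abs_sub Q 1).trans (by rw [hQa, abs_one])
  have hm0 : m ≠ 0 := fun e => hQ1 (by rw [hm, e, mul_zero])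
  have hma : 4 ≤ |m| := Int.le_of_dvd (abs_pos.2 hm0) ((dvd_abs _ _).2 hm4)
  have hha : 4 * |h0| ≤ q + 1 := by
    refine le_trans ?_ hQ1a
    rw [hm, abs_mul, mul_comm (4 : ℤ)]
    exact mul_le_mul_of_nonneg_left hma (abs_nonneg _)
  have hk'a : 4 * |k'| ≤ q + 1 :=
    le_trans (by linarith [Int.le_of_dvd (abs_pos.2 hh0') ((abs_dvd_abs _ _).2 hk'h)]) hha
  have hEa : 2 * |E| ≤ q + 1 := by
    have hEo : ¬ (2 : ℤ) ∣ E := fun hd => hk'o (by
      have := dvd_add hd (((by norm_num : (2 : ℤ) ∣ 4).trans hm4).mul_left (i : ℤ))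
      rwa [hEdef, sub_add_cancel] at this)
    obtain ⟨t, ht⟩ := hEQ
    have ht2 : (2 : ℤ) ∣ t := by
      refine (Int.prime_two.dvd_or_dvd (ht ▸ ?_)).resolve_left hEo
      obtain ⟨l, hl⟩ := (by norm_num : (2 : ℤ) ∣ 4).trans h4
      exact ⟨l - 1, by linear_combination hl⟩
    have ht0 : t ≠ 0 := fun e => hQm (by rw [ht, e, mul_zero])
    refine le_trans ?_ hQma
    rw [ht, abs_mul, mul_comm (2 : ℤ)]
    exact mul_le_mul_of_nonneg_left (Int.le_of_dvd (abs_pos.2 ht0) ((dvd_abs _ _).2 ht2)) (abs_nonneg _)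
  have hi4 : 4 * (i : ℤ) ≤ |k'| + |E| := by
    calc 4 * (i : ℤ) ≤ |m| * i := mul_le_mul_of_nonneg_right hma (by positivity)
      _ = |k' - E| := by rw [show k' - E = m * i by rw [hEdef]; ring, abs_mul, Nat.abs_cast]
      _ ≤ _ := abs_sub _ _
  have h16 : 16 * (i : ℤ) ≤ 3 * (q + 1) := by linarith
  refine ⟨by exact_mod_cast h16, ?_⟩
  have hka : 16 * |k| ≤ ((q : ℤ) + 1) ^ 2 := by
    rw [hk', abs_mul]
    calc 16 * (|h0| * |k'|) = (4 * |h0|) * (4 * |k'|) := by ring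
      _ ≤ ((q : ℤ) + 1) * (q + 1) := mul_le_mul hha hk'a (by positivity) (by positivity)
      _ = _ := by ring
  have key : ∀ a : ℤ, |a| ≤ ((q : ℤ) + 1) ^ 2 → 4 * |(i : ℤ) * a - k| ≤ ((q : ℤ) + 1) ^ 3 := fun a ha => by
    have h1 := abs_sub ((i : ℤ) * a) k
    rw [abs_mul, Nat.abs_cast] at h1
    have h2 : 16 * ((i : ℤ) * |a|) ≤ 3 * (q + 1) * ((q : ℤ) + 1) ^ 2 := by
      rw [← mul_assoc]
      exact mul_le_mul h16 ha (abs_nonneg _) (by positivity)
    have h3 : ((q : ℤ) + 1) ^ 2 ≤ ((q : ℤ) + 1) ^ 3 := pow_le_pow_right₀ (by linarith [Nat.cast_nonneg (α := ℤ) q]) (by norm_num)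
    nlinarith
  have k1 := key ((Q + 1) ^ 2) (by rw [abs_pow]; exact pow_le_pow_left₀ (abs_nonneg _) hQ1a 2)
  have k2 := key (Q * (Q + 1)) (by
    rw [abs_mul, sq, hQa]; exact mul_le_mul (by linarith) hQ1a (abs_nonneg _) (by positivity))
  have h6 : 16 * (N : ℤ) ≤ ((q : ℤ) + 1) ^ 6 := by
    rw [← Nat.abs_cast, hN, abs_mul]
    calc 16 * (|(i : ℤ) * (Q + 1) ^ 2 - k| * |(i : ℤ) * Q * (Q + 1) - k|) =
          (4 * |(i : ℤ) * (Q + 1) ^ 2 - k|) * (4 * |(i : ℤ) * Q * (Q + 1) - k|) := by ring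
      _ ≤ ((q : ℤ) + 1) ^ 3 * ((q : ℤ) + 1) ^ 3 := mul_le_mul k1 (by rwa [mul_assoc (i : ℤ) Q] ) (by positivity) (by positivity)
      _ = _ := by ring
  exact_mod_cast h6

/-- The bound on `i` excludes the prime fields and the fields of order `9` and `25`. -/
theorem size_cases {p n i : ℕ} (hp : p.Prime) (hp2 : p ≠ 2) (hn : 1 ≤ n) (hq : 3 < p ^ n) (hpi : p ≤ i)
    (h16 : 16 * i ≤ 3 * (p ^ n + 1)) : 2 ≤ n ∧ 27 ≤ p ^ n := by
  have hp3 : 3 ≤ p := by have := hp.two_le; omega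
  have hn2 : 2 ≤ n := by
    by_contra hlt
    obtain rfl : n = 1 := by omega
    rw [pow_one] at hq h16
    omega
  refine ⟨hn2, ?_⟩
  rcases eq_or_lt_of_le hn2 with rfl | hlt
  · by_contra hcon
    have hp5 : p ≤ 5 := by nlinarith
    interval_cases p <;> norm_num at hp <;> omega
  · exact le_trans (by norm_num) ((Nat.pow_le_pow_left hp3 n).trans' (Nat.pow_le_pow_right (by norm_num) hlt))

/-- **The orbit of the root torus is too large.** -/
theorem growth {p n : ℕ} (hp : p.Prime) (hp2 : p ≠ 2) (hn : 2 ≤ n) (hq : 27 ≤ p ^ n) :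
    2 * ((p ^ n) ^ 2 - 1) * (p ^ n + 1) ^ 6 < 16 * (2 * p + 1) ^ ((p ^ n - 1) / 2) := by
  have hp3 : 3 ≤ p := by have := hp.two_le; omega
  set q := p ^ n with hqdef
  have h6 : (q + 1) ^ 6 ≤ 2 * q ^ 6 := by
    have h1 : 27 ^ 6 * (q + 1) ^ 6 ≤ 28 ^ 6 * q ^ 6 := by
      rw [← mul_pow, ← mul_pow]
      exact Nat.pow_le_pow_left (by omega) 6
    omega
  have hL : 2 * (q ^ 2 - 1) * (q + 1) ^ 6 ≤ 4 * q ^ 8 := by
    calc 2 * (q ^ 2 - 1) * (q + 1) ^ 6 ≤ 2 * q ^ 2 * (2 * q ^ 6) :=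
          Nat.mul_le_mul (Nat.mul_le_mul_left 2 (Nat.sub_le _ _)) h6
      _ = 4 * q ^ 8 := by ring
  refine lt_of_le_of_lt hL ?_
  by_cases h27 : p = 3 ∧ n = 3
  · obtain ⟨rfl, rfl⟩ := h27
    rw [hqdef]; norm_num
  have h8 : 8 * n ≤ (q - 1) / 2 := by
    have key : ∀ m : ℕ, 4 ≤ m → 16 * m + 1 ≤ 3 ^ m := fun m hm => by
      induction m, hm using Nat.le_induction with
      | base => norm_num
      | succ m hm ih => rw [pow_succ]; omega
    rcases (show n = 2 ∨ n = 3 ∨ 4 ≤ n by omega) with rfl | rfl | h4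
    · have : 7 ≤ p := by
        by_contra hlt
        interval_cases p <;> first | (norm_num at hp; done) | norm_num [hqdef] at hq
      have : 7 ^ 2 ≤ q := Nat.pow_le_pow_left this 2
      omega
    · have : 5 ≤ p := by
        by_contra hlt
        interval_cases p
        · exact h27 ⟨rfl, rfl⟩
        · norm_num at hp
      have : 5 ^ 3 ≤ q := Nat.pow_le_pow_left this 3
      omega
    · have := (key n h4).trans (Nat.pow_le_pow_left hp3 n)
      omega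
  have h1 : q ^ 8 ≤ (2 * p + 1) ^ (8 * n) := by
    rw [hqdef, ← pow_mul, mul_comm n 8]
    exact Nat.pow_le_pow_left (by omega) _
  have h2 := h1.trans (Nat.pow_le_pow_right (by omega) h8)
  have h3 : 0 < q ^ 8 := pow_pos (by omega) 8
  omega

end CfsgLib.RankTwoModel.L4.Safety
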