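import Cfsg.Agent.Lib.RankTwoModel.SL2Odd
import Cfsg.Agent.Lib.SL2Centralizer
import Mathlib.NumberTheory.LegendreSymbol.QuadraticChar.Basic

/-!
Facts on two by two matrices used for the safety of the elements of the inverted core.

* `alt_eq_one`: an alternating pairing on the field twisted by the quadratic character is trivial;
* `exists_conj_of_det`, `exists_inverting`: traceless matrices with a given determinant;
* `rgroup_cyclic`: the subgroups of prime power order, the prime odd and not the characteristic, are cyclic.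
-/

set_option autoImplicit false
set_option linter.unusedSectionVars false
set_option linter.style.haveILetI false

namespace CfsgLib.RankTwoModel.Safety

open CfsgLib.PSL2
open CfsgLib.GL2Classes (exists_conj_comp)

variable {F : Type} [Field F] [Fintype F]

local notation "M2" => Matrix (Fin 2) (Fin 2) F
local notation "SL" => Matrix.SpecialLinearGroup (Fin 2) F

/-- **The twisted alternating pairing.** -/
theorem alt_eq_one [DecidableEq F] {p : ℕ} [Fact p.Prime] [CharP F p] (hp2 : p ≠ 2) {Z : Type*} [CommGroup Z]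
    (β : F → F → Z) (hl : ∀ a a' b, β (a + a') b = β a b * β a' b) (hr : ∀ a b b', β a (b + b') = β a b * β a b')
    (hodd : ∀ w : Z, w * w = 1 → w = 1)
    (hinv : ∀ l a b, l ≠ 0 → β (l * a) (l * b) = β a b ^ quadraticChar F l)
    (hsize : ∀ w : Z, w ≠ 1 → w ^ p = 1 → 9 < Fintype.card F) (x y : F) : β x y = 1 := by
  classical
  have hpp : p.Prime := Fact.out
  have h0l : ∀ b, β 0 b = 1 := fun b => by have := hl 0 0 b; rwa [add_zero, left_eq_mul] at this
  have h0r : ∀ a, β a 0 = 1 := fun a => by have := hr a 0 0; rwa [add_zero, left_eq_mul] at this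
  have hnl : ∀ a b, β (-a) b = (β a b)⁻¹ := fun a b =>
    eq_inv_of_mul_eq_one_left (by rw [← hl, neg_add_cancel, h0l])
  have hnr : ∀ a b, β a (-b) = (β a b)⁻¹ := fun a b =>
    eq_inv_of_mul_eq_one_left (by rw [← hr, neg_add_cancel, h0r])
  set w := β x y with hw
  by_contra hw1
  have hwp : w ^ p = 1 := by
    have key : ∀ n : ℕ, β ((n : F) * x) y = w ^ n := fun n => by
      induction n with
      | zero => rw [Nat.cast_zero, zero_mul, h0l, pow_zero]
      | succ n ih => rw [Nat.cast_succ, add_mul, one_mul, hl, ih, pow_succ]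
    rw [← key, CharP.cast_eq_zero, zero_mul, h0l]
  have hF : 9 < Fintype.card F := hsize w hw1 hwp
  set χ := quadraticChar F with hχ
  have hdvd : ∀ n : ℤ, w ^ n = 1 → (p : ℤ) ∣ n := fun n hn => by
    rw [← orderOf_eq_prime hwp hw1]
    exact orderOf_dvd_iff_zpow_eq_one.2 hn
  have hsm : ∀ l : F, β (l * x) (l * y) = w ^ χ l := fun l => by
    by_cases hl0 : l = 0
    · rw [hl0, zero_mul, zero_mul, h0l, quadraticChar_zero, zpow_zero]
    · exact hinv l x y hl0
  -- the symmetric pairing on the field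
  have hΦ : ∀ s t : F, β (s * x) (t * y) * β (t * x) (s * y) = w ^ (χ (s + t) - χ s - χ t) := fun s t => by
    have e := hsm (s + t)
    rw [add_mul, add_mul, hl, hr, hr, hsm s, hsm t] at e
    rw [zpow_sub, zpow_sub, ← e, eq_mul_inv_iff_mul_eq, eq_mul_inv_iff_mul_eq]
    ac_rfl
  have hker : ∀ s u u' : F, ((χ (s + u) - χ s - χ u : ℤ) : ZMod p) = ((χ (s + u') - χ s - χ u' : ℤ) : ZMod p) →
      (p : ℤ) ∣ χ (s + (u - u')) - χ s - χ (u - u') := fun s u u' hs => by
    refine hdvd _ ?_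
    have e1 := hΦ s u
    have e2 := hΦ s u'
    have e3 : w ^ (χ (s + u) - χ s - χ u) = w ^ (χ (s + u') - χ s - χ u') := by
      obtain ⟨m, hm⟩ := (ZMod.intCast_eq_intCast_iff_dvd_sub _ _ p).1 hs
      rw [eq_add_of_sub_eq hm, zpow_add, zpow_mul, zpow_natCast, hwp, one_zpow, one_mul]
    rw [← hΦ s (u - u'), sub_mul, sub_mul, sub_eq_add_neg, sub_eq_add_neg, hl, hr, hnl, hnr]
    rw [e3, ← e2] at e1
    calc β (s * x) (u * y) * (β (s * x) (u' * y))⁻¹ * (β (u * x) (s * y) * (β (u' * x) (s * y))⁻¹) =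
        (β (s * x) (u * y) * β (u * x) (s * y)) * (β (s * x) (u' * y) * β (u' * x) (s * y))⁻¹ := by
          rw [mul_inv (β (s * x) (u' * y))]; ac_rfl
      _ = 1 := by rw [e1, mul_inv_cancel]
  -- `-1` is a square
  have hm1 : χ (-1) = 1 := by
    rcases quadraticChar_dichotomy (F := F) (a := -1) (neg_ne_zero.2 one_ne_zero) with e | e
    · exact e
    · exfalso
      have h1 := hinv (-1) x y (neg_ne_zero.2 one_ne_zero)
      rw [e, neg_one_mul, neg_one_mul, hnl, hnr, inv_inv, zpow_neg, zpow_one, ← hw] at h1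
      exact hw1 (hodd w (by nth_rewrite 1 [h1]; exact inv_mul_cancel w))
  -- an element orthogonal to one
  obtain ⟨t, t', hne, he⟩ : ∃ t t' : F, t ≠ t' ∧
      ((χ (1 + t) - χ 1 - χ t : ℤ) : ZMod p) = ((χ (1 + t') - χ 1 - χ t' : ℤ) : ZMod p) := by
    refine Fintype.exists_ne_map_eq_of_card_lt (fun t : F => ((χ (1 + t) - χ 1 - χ t : ℤ) : ZMod p)) ?_
    rw [ZMod.card]
    by_contra hle
    have h2 : (p : ℤ) ∣ χ (1 + 1) - χ 1 - χ 1 - 2 := by
      refine hdvd _ ?_
      have e := hΦ 1 1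
      rw [one_mul, one_mul, ← hw] at e
      rw [zpow_sub, ← e]
      group
    have hF2 : (1 + 1 : F) ≠ 0 := by
      rw [show (1 + 1 : F) = ((2 : ℕ) : F) by norm_num, Ne, CharP.cast_eq_zero_iff F p]
      exact fun hd => hp2 ((Nat.prime_dvd_prime_iff_eq hpp Nat.prime_two).1 hd)
    rw [map_one] at h2
    rcases quadraticChar_dichotomy (F := F) hF2 with e | e <;> rw [e] at h2 <;> norm_num at h2
    all_goals
      have h3 := Int.natAbs_dvd_natAbs.2 h2
      simp at h3
      have := Nat.le_of_dvd (by norm_num) h3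
      omega
  set a := t - t' with ha
  have ha0 : a ≠ 0 := sub_ne_zero.2 hne
  have hn0 : (p : ℤ) ∣ χ (1 + a) - χ 1 - χ a := hker 1 t t' he
  have h11 : (p : ℤ) ∣ χ (1 + 1) - χ 1 - χ 1 - 2 := by
    refine hdvd _ ?_
    have e := hΦ 1 1
    rw [one_mul, one_mul, ← hw] at e
    rw [zpow_sub, ← e]
    group
  have hF2 : (1 + 1 : F) ≠ 0 := by
    rw [show (1 + 1 : F) = ((2 : ℕ) : F) by norm_num, Ne, CharP.cast_eq_zero_iff F p]
    exact fun hd => hp2 ((Nat.prime_dvd_prime_iff_eq hpp Nat.prime_two).1 hd)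
  have hp35 : (p = 3 ∧ χ (1 + 1) = 1) ∨ (p = 5 ∧ χ (1 + 1) = -1) := by
    rw [map_one] at h11
    rcases quadraticChar_dichotomy (F := F) hF2 with e | e <;> rw [hχ, e] at h11 <;> norm_num at h11
    · refine Or.inl ⟨?_, e⟩
      exact (Nat.prime_dvd_prime_iff_eq hpp Nat.prime_three).1 (Int.natCast_dvd_natCast.1 (by simpa using dvd_neg.2 h11))
    · refine Or.inr ⟨?_, e⟩
      exact (Nat.prime_dvd_prime_iff_eq hpp Nat.prime_five).1 (Int.natCast_dvd_natCast.1 (by simpa using dvd_neg.2 h11))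
  -- the elements orthogonal to one
  have horth : ∀ b : F, b ≠ 0 → (p : ℤ) ∣ χ (1 + b) - χ 1 - χ b → p = 3 ∧ χ b = 1 := fun b hb hd => by
    rw [map_one] at hd
    rcases quadraticChar_dichotomy (F := F) hb with e | e <;> rw [hχ, e] at hd
    · by_cases hb1 : (1 : F) + b = 0
      · rw [hb1, quadraticChar_zero] at hd
        rcases hp35 with ⟨rfl, -⟩ | ⟨rfl, -⟩ <;> norm_num at hd
      · rcases quadraticChar_dichotomy (F := F) hb1 with e1 | e1 <;> rw [e1] at hd <;>
          rcases hp35 with ⟨rfl, -⟩ | ⟨rfl, -⟩ <;> first | exact ⟨rfl, e⟩ | norm_num at hd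
    · by_cases hb1 : (1 : F) + b = 0
      · exfalso
        rw [show b = -1 by linear_combination hb1] at e
        rw [hχ] at hm1
        omega
      · rcases quadraticChar_dichotomy (F := F) hb1 with e1 | e1 <;> rw [e1] at hd <;>
          rcases hp35 with ⟨rfl, -⟩ | ⟨rfl, -⟩ <;> norm_num at hd
  obtain ⟨hp3, hχa⟩ := horth a ha0 hn0
  subst hp3
  -- an element orthogonal to one and to `a`
  obtain ⟨u, u', hne', he'⟩ := Fintype.exists_ne_map_eq_of_card_lt
    (fun u : F => (((χ (1 + u) - χ 1 - χ u : ℤ) : ZMod 3), ((χ (a + u) - χ a - χ u : ℤ) : ZMod 3)))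
    (by rw [Fintype.card_prod, ZMod.card]; omega)
  have hlin := fun s : F => hker s u u'
  set b := u - u'
  have hb0 : b ≠ 0 := sub_ne_zero.2 hne'
  obtain ⟨hb1, hb2⟩ := Prod.ext_iff.1 he'
  have hχb := (horth b hb0 (hlin 1 hb1)).2
  have hab := hlin a hb2
  have hnab : (3 : ℤ) ∣ χ (1 + (a + b)) - χ 1 - χ (a + b) := by
    refine hdvd _ ?_
    rw [← hΦ 1 (a + b), one_mul, one_mul, add_mul, add_mul, hl, hr]
    have f1 : w ^ (χ (1 + a) - χ 1 - χ a) = 1 := by
      obtain ⟨m, hm⟩ := hn0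
      rw [hm, zpow_mul, zpow_natCast, hwp, one_zpow]
    have f2 : w ^ (χ (1 + b) - χ 1 - χ b) = 1 := by
      obtain ⟨m, hm⟩ := hlin 1 hb1
      rw [hm, zpow_mul, zpow_natCast, hwp, one_zpow]
    rw [← hΦ, one_mul, one_mul] at f1 f2
    calc β x (a * y) * β x (b * y) * (β (a * x) y * β (b * x) y) =
        (β x (a * y) * β (a * x) y) * (β x (b * y) * β (b * x) y) := by ac_rfl
      _ = 1 := by rw [f1, f2, mul_one]
  by_cases hsum : a + b = 0
  · rw [hsum, quadraticChar_zero, hχa, hχb] at hab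
    norm_num at hab
  · rw [(horth _ hsum hnab).2, hχa, hχb] at hab
    norm_num at hab

/-- Two traceless non-scalar matrices of equal determinant are conjugate in the special linear group. -/
theorem exists_conj_of_det (hodd : Odd (Fintype.card F)) {g M : GL (Fin 2) F} (hg : g.1.trace = 0)
    (hgn : ∀ a : F, g.1 ≠ a • (1 : M2)) (hM : M.1.trace = 0) (hMn : ∀ a : F, M.1 ≠ a • (1 : M2))
    (hd : M.1.det = g.1.det) : ∃ A : SL, A.1 * g.1 * (A⁻¹).1 = M.1 := by
  obtain ⟨P, hP⟩ := exists_conj_comp hgn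
  obtain ⟨R, hR⟩ := exists_conj_comp hMn
  rw [hM, hd] at hR
  rw [hg] at hP
  set T : M2 := R.1 * (P⁻¹).1 with hT
  have hTg : T * g.1 = M.1 * T := by
    have e : (P⁻¹).1 * g.1 = GL2Classes.comp 0 g.1.det * (P⁻¹).1 := by
      calc (P⁻¹).1 * g.1 = (P⁻¹).1 * (g.1 * P.1) * (P⁻¹).1 := by simp [Matrix.mul_assoc]
        _ = _ := by rw [hP]; simp [← Matrix.mul_assoc]
    rw [hT, ← Matrix.mul_assoc M.1, hR, Matrix.mul_assoc, e, Matrix.mul_assoc]
  have hdT : T.det ≠ 0 := ((Matrix.isUnit_iff_isUnit_det _).mp (R * P⁻¹).isUnit).ne_zero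
  have hdg := GW.Model.det_ne g
  obtain ⟨x, y, hxy⟩ := FiniteField.exists_root_sum_quadratic
    (f := (Polynomial.C (1 : F) * Polynomial.X ^ 2)) (g := Polynomial.C g.1.det * Polynomial.X ^ 2 - Polynomial.C (T.det)⁻¹)
    (Polynomial.degree_C_mul_X_pow 2 one_ne_zero)
    (by rw [sub_eq_add_neg, ← Polynomial.C_neg, Polynomial.degree_add_C (by
      rw [Polynomial.degree_C_mul_X_pow 2 hdg]; decide), Polynomial.degree_C_mul_X_pow 2 hdg]; rfl)
    (Nat.odd_iff.1 hodd)
  simp at hxy
  have hdet : (T * (x • (1 : M2) + y • g.1)).det = 1 := by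
    have h11 : g.1 1 1 = -g.1 0 0 := by rw [Matrix.trace_fin_two] at hg; linear_combination hg
    rw [Matrix.det_mul, show (x • (1 : M2) + y • g.1).det = x ^ 2 + g.1.det * y ^ 2 by
      simp [Matrix.det_fin_two, h11]; ring, show x ^ 2 + g.1.det * y ^ 2 = (T.det)⁻¹ by linear_combination hxy,
      mul_inv_cancel₀ hdT]
  refine ⟨⟨T * (x • (1 : M2) + y • g.1), hdet⟩, ?_⟩
  set A : SL := ⟨T * (x • (1 : M2) + y • g.1), hdet⟩
  have hA : A.1 * g.1 = M.1 * A.1 := by
    show T * (x • (1 : M2) + y • g.1) * g.1 = M.1 * (T * (x • (1 : M2) + y • g.1))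
    rw [← Matrix.mul_assoc, ← hTg, Matrix.mul_assoc T, Matrix.mul_assoc T]
    congr 1
    simp [Matrix.add_mul, Matrix.mul_add]
  rw [hA, Matrix.mul_assoc, show A.1 * (A⁻¹).1 = 1 from congrArg Subtype.val (mul_inv_cancel A), Matrix.mul_one]

/-- **A semisimple element is inverted by traceless matrices of every determinant.** -/
theorem exists_inverting (hodd : Odd (Fintype.card F)) {k : SL} (hk : k.1.trace ^ 2 ≠ 4) {δ : F} (hδ : δ ≠ 0) :
    ∃ M : GL (Fin 2) F, M.1.trace = 0 ∧ (∀ a : F, M.1 ≠ a • (1 : M2)) ∧ M.1.det = δ ∧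
      M.1 * k.1 * (M⁻¹).1 = (k⁻¹).1 := by
  have h2 := SL2Orders.two_ne_zero_of_odd hodd
  have hns := SL2Centralizer.not_scalar_of_trace hk
  have hki : (k⁻¹).1 = k.1.trace • (1 : M2) - k.1 := by
    rw [Matrix.SpecialLinearGroup.coe_inv]
    ext i j
    fin_cases i <;> fin_cases j <;> simp [Matrix.adjugate_fin_two, Matrix.trace_fin_two]
  have htr : (k⁻¹).1.trace = k.1.trace := by
    rw [hki, Matrix.trace_sub, Matrix.trace_smul, Matrix.trace_one, Fintype.card_fin, smul_eq_mul]
    push_cast; ring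
  have hkin := SL2Centralizer.not_scalar_of_trace (g := k⁻¹) (by rw [htr]; exact hk)
  obtain ⟨P, hP⟩ := exists_conj_comp hns
  obtain ⟨R, hR⟩ := exists_conj_comp hkin
  rw [htr, (k⁻¹).2] at hR
  rw [k.2] at hP
  set t := k.1.trace
  set T : M2 := R.1 * (P⁻¹).1 with hT
  have hTk : T * k.1 = (k⁻¹).1 * T := by
    have e : (P⁻¹).1 * k.1 = GL2Classes.comp t 1 * (P⁻¹).1 := by
      calc (P⁻¹).1 * k.1 = (P⁻¹).1 * (k.1 * P.1) * (P⁻¹).1 := by simp [Matrix.mul_assoc]
        _ = _ := by rw [hP]; simp [← Matrix.mul_assoc]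
    rw [hT, ← Matrix.mul_assoc (k⁻¹).1, hR, Matrix.mul_assoc, e, Matrix.mul_assoc]
  have hdT : T.det ≠ 0 := ((Matrix.isUnit_iff_isUnit_det _).mp (R * P⁻¹).isUnit).ne_zero
  set e := 1 - t ^ 2 / 4 with he
  have h4 : (4 : F) ≠ 0 := fun e4 => mul_ne_zero h2 h2 (by rw [← e4]; norm_num)
  have he0 : e ≠ 0 := fun e0 => hk (by
    rw [he] at e0
    field_simp at e0
    linear_combination -e0)
  obtain ⟨a, b, hab⟩ := FiniteField.exists_root_sum_quadratic
    (f := (Polynomial.C (1 : F) * Polynomial.X ^ 2)) (g := Polynomial.C e * Polynomial.X ^ 2 - Polynomial.C (δ / T.det))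
    (Polynomial.degree_C_mul_X_pow 2 one_ne_zero)
    (by rw [sub_eq_add_neg, ← Polynomial.C_neg, Polynomial.degree_add_C (by
      rw [Polynomial.degree_C_mul_X_pow 2 he0]; decide), Polynomial.degree_C_mul_X_pow 2 he0]; rfl)
    (Nat.odd_iff.1 hodd)
  simp at hab
  set x := a - t * b / 2 with hx
  set N : M2 := T * (x • (1 : M2) + b • k.1) with hN
  have hdet : N.det = δ := by
    rw [hN, Matrix.det_mul, SL2Centralizer.det_lin,
      show x * x + t * x * b + b * b = δ / T.det by rw [hx]; rw [he] at hab; field_simp at hab ⊢; linear_combination hab,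
      mul_div_cancel₀ _ hdT]
  let M : GL (Fin 2) F := Matrix.GeneralLinearGroup.mkOfDetNeZero N (hdet ▸ hδ)
  have hMk : N * k.1 = (k⁻¹).1 * N := by
    rw [hN, ← Matrix.mul_assoc, ← hTk, Matrix.mul_assoc, Matrix.mul_assoc T]
    congr 1
    simp [Matrix.add_mul, Matrix.mul_add]
  -- an element interchanging a non-scalar element and its inverse has trace zero
  have hrel : N * k.1 + k.1 * N = t • N := by
    rw [hMk, hki, Matrix.sub_mul, Matrix.smul_mul, Matrix.one_mul, sub_add_cancel]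
  have hdisc : (k.1 0 0 - k.1 1 1) ^ 2 + 4 * (k.1 0 1 * k.1 1 0) ≠ 0 := fun e0 => hk (by
    have hd := k.2
    rw [Matrix.det_fin_two] at hd
    show k.1.trace ^ 2 = 4
    rw [Matrix.trace_fin_two]
    linear_combination e0 + 4 * hd)
  have hN0 : N.trace = 0 := by
    have r00 := congrFun (congrFun hrel 0) 0
    have r01 := congrFun (congrFun hrel 0) 1
    have r10 := congrFun (congrFun hrel 1) 0
    have r11 := congrFun (congrFun hrel 1) 1
    simp [Matrix.mul_apply, Fin.sum_univ_two, t, Matrix.trace_fin_two] at r00 r01 r10 r11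
    rw [Matrix.trace_fin_two]
    refine (mul_eq_zero.1 (show ((k.1 0 0 - k.1 1 1) ^ 2 + 4 * (k.1 0 1 * k.1 1 0)) * (N 0 0 + N 1 1) = 0 by
      linear_combination (k.1 0 0 - k.1 1 1) * r00 - (k.1 0 0 - k.1 1 1) * r11 + 2 * k.1 1 0 * r01 +
        2 * k.1 0 1 * r10)).resolve_left hdisc
  have hMn : ∀ c : F, M.1 ≠ c • (1 : M2) := fun c hc => by
    have h1 : N.trace = c + c := by
      rw [show N = c • (1 : M2) from hc, Matrix.trace_smul, Matrix.trace_one, Fintype.card_fin, smul_eq_mul]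
      push_cast; ring
    rw [hN0] at h1
    have hc0 : c = 0 := (mul_eq_zero.1 (show (2 : F) * c = 0 by linear_combination -h1)).resolve_left h2
    rw [hc0, zero_smul] at hc
    exact GW.Model.det_ne M (by rw [hc, Matrix.det_zero])
  refine ⟨M, hN0, hMn, hdet, ?_⟩
  rw [show M.1 = N from rfl, hMk, Matrix.mul_assoc, show N * (M⁻¹).1 = 1 from Units.mul_inv M, Matrix.mul_one]

/-- Matrices commuting with a non-scalar one commute. -/
theorem commute_of_commute {k A B : M2} (hk : ∀ a : F, k ≠ a • (1 : M2)) (hA : Commute A k) (hB : Commute B k) :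
    Commute A B := by
  obtain ⟨x, y, rfl⟩ := SL2Centralizer.exists_of_commute hk hA
  refine Commute.add_left ?_ ?_
  · exact (Commute.one_left B).smul_left x
  · exact (hB.symm).smul_left y

/-- Elements of special linear groups commuting with a non-central one commute. -/
theorem SL_commute_of_commute {k A B : SL} (hk : ∀ a : F, k.1 ≠ a • (1 : M2)) (hA : A * k = k * A)
    (hB : B * k = k * B) : A * B = B * A :=
  Subtype.ext (commute_of_commute hk (congrArg Subtype.val hA) (congrArg Subtype.val hB)).eq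

/-- A non-trivial element of odd prime power order is not scalar. -/
theorem not_scalar_of_odd {k : SL} (h : Odd (orderOf k)) (hk : k ≠ 1) (a : F) : k.1 ≠ a • (1 : M2) := by
  intro e
  have hsq : k * k = 1 := Subtype.ext (by
    show k.1 * k.1 = 1
    have hd := k.2
    rw [e, Matrix.det_smul, Fintype.card_fin, Matrix.det_one, mul_one] at hd
    rw [e, Matrix.smul_mul, Matrix.one_mul, smul_smul, ← pow_two, hd, one_smul])
  exact hk (orderOf_eq_one_iff.1 (Nat.eq_one_of_dvd_coprimes (Nat.coprime_two_left.2 h)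
    (orderOf_dvd_of_pow_eq_one (by rw [pow_two, hsq])) dvd_rfl))

/-- The subgroups of prime power order, the prime odd and not the characteristic, are cyclic. -/
theorem rgroup_cyclic (ℓ : ℕ) [Fact ℓ.Prime] [CharP F ℓ] {r : ℕ} [hr : Fact r.Prime] (hr2 : r ≠ 2) (hrl : r ≠ ℓ)
    {K : Subgroup SL} (hK : IsPGroup r K) : IsCyclic K := by
  classical
  by_cases hK1 : K = ⊥
  · haveI : Subsingleton K := ⟨fun a b => Subtype.ext (by
      rw [Subgroup.mem_bot.1 (hK1.le a.2), Subgroup.mem_bot.1 (hK1.le b.2)])⟩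
    exact isCyclic_of_subsingleton
  haveI : Nontrivial K := (Subgroup.nontrivial_iff_ne_bot K).2 hK1
  haveI := hK.center_nontrivial
  obtain ⟨k, hk1⟩ := exists_ne (1 : Subgroup.center K)
  obtain ⟨m, hm⟩ := hK (k : K)
  have hk0 : ((k : K) : SL) ≠ 1 := fun e => hk1 (Subtype.ext (Subtype.ext e))
  obtain ⟨hc, -⟩ := SL2Tori.isCyclic_centralizer
    (SL2Tori.trace_ne_of_odd ℓ hr.out hr2 hrl (k := m) (x := ((k : K) : SL))
      (by rw [← Subgroup.coe_pow, hm, Subgroup.coe_one]) hk0)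
  haveI := hc
  have hle : K ≤ Subgroup.centralizer ({((k : K) : SL)} : Set SL) := fun a ha =>
    Subgroup.mem_centralizer_singleton_iff.2 (congrArg Subtype.val (Subgroup.mem_center_iff.1 k.2 ⟨a, ha⟩))
  exact isCyclic_of_injective (Subgroup.inclusion hle) (Subgroup.inclusion_injective hle)

/-- The root group is additive. -/
theorem uSL_mul (a b : F) : (uSL a * uSL b : SL) = uSL (a + b) := Subtype.ext (by
  show (uSL a).1 * (uSL b).1 = (uSL (a + b)).1
  rw [coe_uSL, coe_uSL, coe_uSL, Matrix.mul_fin_two]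
  ext i j
  fin_cases i <;> fin_cases j <;> simp [add_comm])

theorem uSL_comm (a b : F) : (uSL a * uSL b * (uSL a)⁻¹ * (uSL b)⁻¹ : SL) = 1 := by
  rw [uSL_mul, add_comm, ← uSL_mul, mul_inv_cancel_right, mul_inv_cancel]

end CfsgLib.RankTwoModel.Safety
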