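import Cfsg.Agent.Lib.RankTwoModel.L4.Pair
import Cfsg.Agent.Lib.RankTwoModel.L4.Safety.SL2
import Cfsg.Agent.Lib.RankTwoModel.FieldElem.Kernel
import Cfsg.Agent.Lib.RankTwoModel.FixedAction
import Cfsg.Agent.Lib.RankTwoModel.OddNormalized

/-!
The flat situation of L4: semidihedral, the centraliser is `L⟨u⟩`, and `u` inverts its core, with the two exports of
the step W and the size bound of the arithmetic.

* `Flat.disjoint`: `D ∩ O = 1`; `Flat.rgroup_comm`: the `r`-subgroups, `r` dividing `|O|`, are abelian;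
* `Flat.exists_mul`: the multipliers of the root group with their action on `O`;
* `Flat.mem_core`, `Flat.O_le_core`, `Flat.inverted_eq_one`: subgroups in which `z` is isolated.

Blueprint: `blueprint/RankTwo_L45.md` (D3, safety).
-/

set_option autoImplicit false
set_option linter.unusedSectionVars false
set_option linter.style.haveILetI false

namespace CfsgLib.RankTwoModel.L4

open Cfsg CfsgLib.BG CfsgLib.PSL2

universe u

variable {G : Type u} [Group G] [Finite G]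

/-- The hypotheses of the safety of D3. -/
structure Flat (d : Frame G) (g : G) : Prop where
  ctx : Ctx d g
  sd : IsQuasiDihedral (d.S : Subgroup G)
  split : ∀ c ∈ d.C, c ∈ d.L ∨ inv2 d g * c ∈ d.L
  inv : ∀ x ∈ d.O, inv2 d g * x * (inv2 d g)⁻¹ = x⁻¹
  vr : ∀ r : ℕ, r.Prime → r ∣ Nat.card d.O → padicValNat r (Nat.card G) = padicValNat r (Nat.card d.C)
  cent : ∀ a ∈ d.O, a ≠ 1 → Subgroup.centralizer ({a} : Set G) ≤ d.C
  size : d.p ∣ Nat.card d.O → 2 ≤ d.n ∧ 27 ≤ d.q ∧ 16 * d.C.index ≤ (d.q + 1) ^ 6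

/-- The core of a subgroup, in the group. -/
noncomputable def coreIn (H : Subgroup G) : Subgroup G := (oddCore ↥H).map H.subtype

theorem coreIn_le (H : Subgroup G) : coreIn H ≤ H := Subgroup.map_subtype_le _

theorem coreIn_odd (H : Subgroup G) : Odd (Nat.card (coreIn H)) := by
  rw [coreIn, Subgroup.card_map_of_injective H.subtype_injective]
  exact CfsgLib.odd_card_oddCore

theorem coreIn_conj {H : Subgroup G} {a x : G} (ha : a ∈ H) (hx : x ∈ coreIn H) : a * x * a⁻¹ ∈ coreIn H := by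
  obtain ⟨y, hy, rfl⟩ := hx
  exact ⟨⟨a, ha⟩ * y * ⟨a, ha⟩⁻¹, (inferInstance : (oddCore ↥H).Normal).conj_mem y hy _, rfl⟩

/-- An element of odd order conjugating an element to its inverse. -/
theorem sq_eq_one_of_odd_inverts {m q : G} (hm : Odd (orderOf m)) (h : m * q * m⁻¹ = q⁻¹) : q * q = 1 := by
  have h2 : Commute (m * m) q := by
    show m * m * q = q * (m * m)
    refine mul_inv_eq_iff_eq_mul.1 ?_
    calc m * m * q * (m * m)⁻¹ = m * (m * q * m⁻¹) * m⁻¹ := by group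
      _ = m * q⁻¹ * m⁻¹ := by rw [h]
      _ = (m * q * m⁻¹)⁻¹ := by group
      _ = q := by rw [h, inv_inv]
  obtain ⟨j, hj⟩ := hm
  have hmq : Commute m q := by
    rw [show m = (m * m) ^ (j + 1) by
      rw [← pow_two, ← pow_mul, show 2 * (j + 1) = orderOf m + 1 by omega, pow_succ, pow_orderOf_eq_one, one_mul]]
    exact h2.pow_left _
  nth_rewrite 1 [show q = q⁻¹ from (by rw [hmq.eq, mul_inv_cancel_right] : m * q * m⁻¹ = q).symm.trans h]
  exact inv_mul_cancel q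

/-- **An inverted element of an odd subgroup with a Sylow subgroup centralised by the involution is trivial.** -/
theorem inverted_of_sylow {d : Frame G} {X : Subgroup G} (hX : Odd (Nat.card X)) (hzn : ∀ y ∈ X, d.z * y * d.z⁻¹ ∈ X)
    {r : ℕ} [hr : Fact r.Prime] (Q : Sylow r ↥X) (hQC : (Q : Subgroup ↥X).map X.subtype ≤ d.C) {e : G} (heX : e ∈ X)
    {k : ℕ} (hek : e ^ r ^ k = 1) (hinv : d.z * e * d.z⁻¹ = e⁻¹) : e = 1 := by
  have hEp : IsPGroup r (Subgroup.zpowers (⟨e, heX⟩ : ↥X)) := by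
    obtain ⟨m, -, hm⟩ := (Nat.dvd_prime_pow hr.out).1 (orderOf_dvd_of_pow_eq_one hek)
    exact IsPGroup.of_card (n := m) (by rw [Nat.card_zpowers, Subgroup.orderOf_mk, hm])
  obtain ⟨T, hT⟩ := hEp.exists_le_sylow
  obtain ⟨b, hb⟩ := MulAction.exists_smul_eq ↥X Q T
  have h1 : (⟨e, heX⟩ : ↥X) ∈ ((b • Q : Sylow r ↥X) : Subgroup ↥X) := by
    rw [hb]; exact hT (Subgroup.mem_zpowers _)
  rw [Sylow.coe_subgroup_smul] at h1
  obtain ⟨q, hq, hqe⟩ := h1
  have heq : e = (b : G) * (q : G) * (b : G)⁻¹ := (congrArg Subtype.val hqe).symm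
  set m := (b : G)⁻¹ * (d.z * (b : G) * d.z⁻¹) with hm
  have hmX : m ∈ X := mul_mem (inv_mem b.2) (hzn _ b.2)
  have hzq := Frame.Spec.z_central (show (q : G) ∈ d.C from hQC ⟨q, hq, rfl⟩)
  have hmq : m * (q : G) * m⁻¹ = (q : G)⁻¹ := by
    rw [heq] at hinv
    calc m * (q : G) * m⁻¹ = (b : G)⁻¹ * (d.z * ((b : G) * (d.z⁻¹ * (q : G) * d.z) * (b : G)⁻¹) * d.z⁻¹) * b := by
          rw [hm]; group
      _ = (b : G)⁻¹ * ((b : G) * (q : G) * (b : G)⁻¹)⁻¹ * b := by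
          rw [show d.z⁻¹ * (q : G) * d.z = q by rw [mul_assoc, hzq, inv_mul_cancel_left], hinv]
      _ = _ := by group
  have hq2 := sq_eq_one_of_odd_inverts (hX.of_dvd_nat (Subgroup.orderOf_dvd_natCard _ hmX)) hmq
  have hq1 : (q : G) = 1 := eq_one_of_sq_odd hq2 (hX.of_dvd_nat (Subgroup.orderOf_dvd_natCard _ q.2))
  rw [heq, hq1, mul_one, mul_inv_cancel]

namespace Flat

variable {d : Frame G} {g : G} (F : Flat d g)
include F

theorem zz : d.z * d.z = 1 := invol_mul_self F.ctx.spec.zord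

theorem uu : inv2 d g * inv2 d g = 1 := invol_mul_self F.ctx.inv2_order

theorem O_comm {a b : G} (ha : a ∈ d.O) (hb : b ∈ d.O) : a * b = b * a := by
  have e := F.inv _ (mul_mem ha hb)
  rw [show inv2 d g * (a * b) * (inv2 d g)⁻¹ = (inv2 d g * a * (inv2 d g)⁻¹) * (inv2 d g * b * (inv2 d g)⁻¹) by group,
    F.inv a ha, F.inv b hb, ← mul_inv_rev] at e
  exact (inv_injective e).symm

theorem decomp {c : G} (hc : c ∈ d.L) : ∃ x ∈ d.D, ∃ o ∈ d.O, c = x * o := by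
  obtain ⟨y, hy, ho⟩ := F.ctx.spec.L_cover F.ctx.hq hc
  exact ⟨y, hy, _, ho, (mul_inv_cancel_left y c).symm⟩

/-- `O` is central in `L`. -/
theorem O_central {c o : G} (hc : c ∈ d.L) (ho : o ∈ d.O) : c * o = o * c := by
  obtain ⟨x, hx, o', ho', rfl⟩ := F.decomp hc
  exact ((show Commute x o from (F.ctx.od o ho x hx).symm).mul_left (F.O_comm ho' ho)).eq

theorem odd_mem {c : G} (hc : c ∈ d.C) (ho : Odd (orderOf c)) : c ∈ d.L := by
  rcases F.split c hc with h | h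
  · exact h
  obtain ⟨j, hj⟩ := ho
  have h2 : c * c ∈ d.L := by
    have e : c * c = inv2 d g * (inv2 d g * c) * (inv2 d g)⁻¹ * (inv2 d g * c) := by
      rw [inv_eq_of_mul_eq_one_right F.uu]
      calc c * c = (inv2 d g * inv2 d g) * c * ((inv2 d g * inv2 d g) * c) := by rw [F.uu]; group
        _ = _ := by group
    rw [e]
    exact mul_mem (d.L_conj F.ctx.inv2_mem h) h
  rw [show c = (c * c) ^ (j + 1) by
    rw [← pow_two, ← pow_mul, show 2 * (j + 1) = orderOf c + 1 by omega, pow_succ, pow_orderOf_eq_one, one_mul]]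
  exact pow_mem h2 _

theorem mul_mem_of_invol {v : G} (hv : v ∈ d.C) (hv2 : orderOf v = 2) (hvz : v ≠ d.z) : inv2 d g * v ∈ d.L :=
  (F.split v hv).resolve_left (F.ctx.spec.invol_not_mem hv2 hvz)

/-- Every involution other than `z` of the centraliser inverts the core. -/
theorem invol_inverts {v : G} (hv : v ∈ d.C) (hv2 : orderOf v = 2) (hvz : v ≠ d.z) {b : G} (hb : b ∈ d.O) :
    v * b * v⁻¹ = b⁻¹ := by
  have hm := F.mul_mem_of_invol hv hv2 hvz
  calc v * b * v⁻¹ = (inv2 d g)⁻¹ * ((inv2 d g * v) * b * (inv2 d g * v)⁻¹) * inv2 d g := by group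
    _ = (inv2 d g)⁻¹ * b * inv2 d g := by rw [F.O_central hm hb, mul_inv_cancel_right]
    _ = inv2 d g * b * (inv2 d g)⁻¹ := by rw [inv_eq_of_mul_eq_one_right F.uu]
    _ = b⁻¹ := F.inv b hb

theorem split_of_invol {v : G} (hv : v ∈ d.C) (hv2 : orderOf v = 2) (hvz : v ≠ d.z) {c : G} (hc : c ∈ d.C) :
    c ∈ d.L ∨ v * c ∈ d.L := by
  refine (F.split c hc).imp id fun h => ?_
  have hvu : (inv2 d g * v)⁻¹ ∈ d.L := inv_mem (F.mul_mem_of_invol hv hv2 hvz)
  have e : v * c = (inv2 d g * v)⁻¹ * (inv2 d g * c) := by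
    rw [mul_inv_rev, inv_eq_of_mul_eq_one_right F.uu, inv_eq_of_mul_eq_one_right (invol_mul_self hv2)]
    calc v * c = v * (inv2 d g * inv2 d g) * c := by rw [F.uu, mul_one]
      _ = _ := by group
  rw [e]
  exact mul_mem hvu h

local notation "SL[" d "]" => Matrix.SpecialLinearGroup (Fin 2) (Frame.F d)

/-- The multipliers and their action on the core. -/
theorem exists_mul [DecidableEq d.F] (R : Rep d) {l : d.F} (hl : l ≠ 0) :
    ∃ (c : G) (hc : c ∈ d.C), R.σ ⟨c, hc⟩ = conjSL (dil (Units.mk0 l hl)) ∧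
      ∀ o ∈ d.O, c * o * c⁻¹ = o ^ quadraticChar d.F l := by
  have hd := F.ctx.spec
  have hq := F.ctx.hq
  have hdet : (dil (Units.mk0 l hl)).1.det = l := by
    show (!![l, 0; 0, 1] : Matrix (Fin 2) (Fin 2) d.F).det = l
    rw [Matrix.det_fin_two_of]; ring
  have lift : ∀ (k : GL (Fin 2) d.F), IsSquare k.1.det → ∃ (y : G) (hy : y ∈ d.D),
      R.σ ⟨y, d.D_le hy⟩ = conjSL k := by
    intro k hk
    obtain ⟨s, hs⟩ := hk
    have hs0 : s ≠ 0 := fun e => GW.Model.det_ne k (by rw [hs, e, zero_mul])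
    let A : SL[d] := ⟨s⁻¹ • k.1, by rw [Matrix.det_smul, hs, Fintype.card_fin]; field_simp⟩
    obtain ⟨y, hy, hyA⟩ := R.surj_D hd hq A
    refine ⟨y, hy, ?_⟩
    rw [show conjSL k = conjSL (Matrix.SpecialLinearGroup.toGL A) from
      (SL2.conjSL_smul (c := s⁻¹) rfl (inv_ne_zero hs0)).symm]
    refine MulEquiv.ext fun B => Subtype.ext ?_
    show (R.σ ⟨((⟨y, hd.D_le_L hq hy⟩ : ↥d.L) : G), _⟩ B).1 = _
    rw [R.sigma_inner, hyA, PSL2.coe_conjSL, ← map_inv]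
    rfl
  by_cases hsq : IsSquare l
  · obtain ⟨y, hy, hσ⟩ := lift (dil (Units.mk0 l hl)) (by rwa [hdet])
    refine ⟨y, d.D_le hy, hσ, fun o ho => ?_⟩
    rw [(quadraticChar_one_iff_isSquare hl).2 hsq, zpow_one, ← F.ctx.od o ho y hy, mul_inv_cancel_right]
  · obtain ⟨g₀, -, -, hg₀⟩ := R.invol hd hq F.ctx.hyp F.ctx.inv2_mem F.ctx.inv2_order F.ctx.inv2_ne
    have hσu : R.σ ⟨inv2 d g, F.ctx.inv2_mem⟩ = conjSL g₀ :=
      MulEquiv.ext fun A => Subtype.ext (by rw [hg₀, PSL2.coe_conjSL])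
    have hout := R.outer hd hq F.ctx.hyp F.sd F.ctx.inv2_mem F.ctx.inv2_order F.ctx.inv2_ne hσu
    have hc2 : ringChar d.F ≠ 2 := fun e => by
      haveI : CharP d.F 2 := ringChar.of_eq e
      exact SL2Orders.two_ne_zero_of_odd hd.odd_card (CharP.cast_eq_zero d.F 2)
    obtain ⟨y, hy, hσ⟩ := lift (g₀⁻¹ * dil (Units.mk0 l hl)) (by
      have hg := GW.Model.det_ne g₀
      have hinv : (g₀⁻¹).1.det = (g₀.1.det)⁻¹ :=
        eq_inv_of_mul_eq_one_left (by rw [← Matrix.det_mul, Units.inv_mul, Matrix.det_one])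
      rw [Units.val_mul, Matrix.det_mul, hdet, hinv, FiniteField.isSquare_iff hc2 (mul_ne_zero (inv_ne_zero hg) hl),
        mul_pow, inv_pow]
      rw [FiniteField.isSquare_iff hc2 hg] at hout
      rw [FiniteField.isSquare_iff hc2 hl] at hsq
      rw [(FiniteField.pow_dichotomy hc2 hg).resolve_left hout, (FiniteField.pow_dichotomy hc2 hl).resolve_left hsq]
      norm_num)
    refine ⟨inv2 d g * y, mul_mem F.ctx.inv2_mem (d.D_le hy), ?_, fun o ho => ?_⟩
    · show R.σ (⟨inv2 d g, F.ctx.inv2_mem⟩ * ⟨y, d.D_le hy⟩) = _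
      rw [map_mul, hσu, hσ, ← map_mul, mul_inv_cancel_left]
    · rw [quadraticChar_neg_one_iff_not_isSquare.2 hsq, zpow_neg_one,
        show inv2 d g * y * o * (inv2 d g * y)⁻¹ = inv2 d g * (y * o * y⁻¹) * (inv2 d g)⁻¹ by group,
        ← F.ctx.od o ho y hy, mul_inv_cancel_right, F.inv o ho]

/-- Two elements of `D` over one root group commute. -/
theorem comm_upper (R : Rep d) {x y : G} (hx : x ∈ d.D) (hy : y ∈ d.D) {a b : d.F}
    (hxa : R.π ⟨x, F.ctx.spec.D_le_L F.ctx.hq hx⟩ = uSL a) (hyb : R.π ⟨y, F.ctx.spec.D_le_L F.ctx.hq hy⟩ = uSL b) :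
    x * y = y * x := by
  classical
  have hd := F.ctx.spec
  have hq := F.ctx.hq
  haveI : Fact d.p.Prime := ⟨hd.prime⟩
  haveI := hd.charP
  letI : CommGroup d.O := { (inferInstance : Group d.O) with mul_comm := fun a b => Subtype.ext (F.O_comm a.2 b.2) }
  choose e heD he using fun a : d.F => R.surj_D hd hq (uSL a)
  have hcommO : ∀ u v : G, ∀ (hu : u ∈ d.D) (hv : v ∈ d.D) (a b : d.F), R.π ⟨u, hd.D_le_L hq hu⟩ = uSL a →
      R.π ⟨v, hd.D_le_L hq hv⟩ = uSL b → u * v * u⁻¹ * v⁻¹ ∈ d.O := fun u v hu hv a b h1 h2 => by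
    refine (R.ker (⟨u, hd.D_le_L hq hu⟩ * ⟨v, hd.D_le_L hq hv⟩ * ⟨u, hd.D_le_L hq hu⟩⁻¹ *
      ⟨v, hd.D_le_L hq hv⟩⁻¹)).1 ?_
    rw [map_mul, map_mul, map_mul, map_inv, map_inv, h1, h2]
    exact Safety.uSL_comm a b
  have hsame : ∀ u u' : G, ∀ (hu : u ∈ d.D) (hu' : u' ∈ d.D),
      R.π ⟨u, hd.D_le_L hq hu⟩ = R.π ⟨u', hd.D_le_L hq hu'⟩ → ∃ o ∈ d.O, u' = u * o := fun u u' hu hu' h => by
    refine ⟨u⁻¹ * u', (R.ker (⟨u, hd.D_le_L hq hu⟩⁻¹ * ⟨u', hd.D_le_L hq hu'⟩)).1 ?_, (mul_inv_cancel_left u u').symm⟩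
    rw [map_mul, map_inv, h, inv_mul_cancel]
  have hcen : ∀ o ∈ d.O, ∀ u ∈ d.D, Commute o u := fun o ho u hu => F.ctx.od o ho u hu
  let β : d.F → d.F → d.O := fun a b => ⟨e a * e b * (e a)⁻¹ * (e b)⁻¹, hcommO _ _ (heD a) (heD b) a b (he a) (he b)⟩
  -- the commutator only depends on the images
  have hβ : ∀ u v : G, ∀ (hu : u ∈ d.D) (hv : v ∈ d.D) (a b : d.F), R.π ⟨u, hd.D_le_L hq hu⟩ = uSL a →
      R.π ⟨v, hd.D_le_L hq hv⟩ = uSL b → u * v * u⁻¹ * v⁻¹ = (β a b : G) := by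
    intro u v hu hv a b h1 h2
    obtain ⟨o, ho, rfl⟩ := hsame _ u (heD a) hu ((he a).trans h1.symm)
    obtain ⟨o', ho', rfl⟩ := hsame _ v (heD b) hv ((he b).trans h2.symm)
    show _ = e a * e b * (e a)⁻¹ * (e b)⁻¹
    have c1 := hcen o ho _ (heD b)
    have c2 := hcen o' ho' _ (heD a)
    have c3 : Commute o o' := F.O_comm ho ho'
    calc e a * o * (e b * o') * (e a * o)⁻¹ * (e b * o')⁻¹
        = e a * (o * e b) * o' * o⁻¹ * (e a)⁻¹ * o'⁻¹ * (e b)⁻¹ := by group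
      _ = e a * e b * (o * o') * o⁻¹ * (e a)⁻¹ * o'⁻¹ * (e b)⁻¹ := by rw [c1.eq]; group
      _ = e a * e b * (o' * (e a)⁻¹) * o'⁻¹ * (e b)⁻¹ := by rw [c3.eq]; group
      _ = _ := by rw [c2.inv_right.eq]; group
  have hbr : ∀ a b : d.F, e a * e b * (e a)⁻¹ = (β a b : G) * e b := fun a b => by
    show _ = e a * e b * (e a)⁻¹ * (e b)⁻¹ * e b
    group
  have hl : ∀ a a' b, β (a + a') b = β a b * β a' b := fun a a' b => Subtype.ext (by
    rw [← hβ (e a * e a') (e b) (mul_mem (heD a) (heD a')) (heD b) _ b (by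
      rw [show (⟨e a * e a', hd.D_le_L hq (mul_mem (heD a) (heD a'))⟩ : ↥d.L) =
        ⟨e a, hd.D_le_L hq (heD a)⟩ * ⟨e a', hd.D_le_L hq (heD a')⟩ from rfl, map_mul, he, he, Safety.uSL_mul]) (he b)]
    show _ = (β a b : G) * (β a' b : G)
    calc e a * e a' * e b * (e a * e a')⁻¹ * (e b)⁻¹ = e a * (e a' * e b * (e a')⁻¹) * (e a)⁻¹ * (e b)⁻¹ := by group
      _ = (e a * (β a' b : G)) * e b * (e a)⁻¹ * (e b)⁻¹ := by rw [hbr]; group
      _ = (β a' b : G) * (e a * e b * (e a)⁻¹ * (e b)⁻¹) := by rw [← (hcen _ (β a' b).2 _ (heD a)).eq]; group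
      _ = _ := F.O_comm (β a' b).2 (β a b).2)
  have hanti : ∀ a b, β b a = (β a b)⁻¹ := fun a b => Subtype.ext (by
    show e b * e a * (e b)⁻¹ * (e a)⁻¹ = (e a * e b * (e a)⁻¹ * (e b)⁻¹)⁻¹
    group)
  have hr : ∀ a b b', β a (b + b') = β a b * β a b' := fun a b b' => by
    rw [hanti (b + b'), hl, mul_inv, ← hanti, ← hanti]
  have hinv : ∀ l a b, l ≠ 0 → β (l * a) (l * b) = β a b ^ quadraticChar d.F l := by
    intro l a b hl0
    obtain ⟨c, hc, hσ, hact⟩ := F.exists_mul R hl0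
    have him : ∀ a : d.F, R.π ⟨c * e a * c⁻¹, d.L_conj hc (hd.D_le_L hq (heD a))⟩ = uSL (l * a) := fun a => by
      rw [← R.compat ⟨c, hc⟩ ⟨e a, hd.D_le_L hq (heD a)⟩, hσ, he]
      refine Subtype.ext ?_
      rw [PSL2.coe_conjSL, coe_uSL, coe_uSL]
      show (!![l, 0; 0, 1] : Matrix (Fin 2) (Fin 2) d.F) * _ * ((dil (Units.mk0 l hl0))⁻¹).1 = _
      rw [← map_inv]
      show (!![l, 0; 0, 1] : Matrix (Fin 2) (Fin 2) d.F) * !![1, a; 0, 1] * !![l⁻¹, 0; 0, 1] = _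
      ext i j
      fin_cases i <;> fin_cases j <;> simp [Matrix.mul_apply, Fin.sum_univ_two, hl0, mul_comm]
    refine Subtype.ext ?_
    rw [← hβ (c * e a * c⁻¹) (c * e b * c⁻¹) (d.D_conj hc (heD a)) (d.D_conj hc (heD b)) _ _ (him a) (him b)]
    rw [Subgroup.coe_zpow, ← hact _ (β a b).2]
    show _ = c * (e a * e b * (e a)⁻¹ * (e b)⁻¹) * c⁻¹
    group
  have hodd : ∀ w : d.O, w * w = 1 → w = 1 := fun w hw => Subtype.ext
    (eq_one_of_sq d.O_odd w.2 (congrArg Subtype.val hw))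
  have hsize : ∀ w : d.O, w ≠ 1 → w ^ d.p = 1 → 9 < Fintype.card d.F := fun w hw hwp => by
    have h1 : d.p ∣ Nat.card d.O := by rw [← orderOf_eq_prime hwp hw]; exact orderOf_dvd_natCard w
    have := (F.size h1).2.1
    rw [hd.card]
    show 9 < d.q
    omega
  have key := Safety.alt_eq_one hd.podd β hl hr hodd hinv hsize a b
  have h1 := hβ x y hx hy a b hxa hyb
  rw [key, Subgroup.coe_one] at h1
  exact mul_inv_eq_iff_eq_mul.1 (mul_inv_eq_one.1 h1)

/-- The subgroups of `L` of prime power order are abelian. -/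
theorem comm_L {r : ℕ} [Fact r.Prime] (hr2 : r ≠ 2) {P : Subgroup G} (hP : IsPGroup r P) (hPL : P ≤ d.L) {a b : G}
    (ha : a ∈ P) (hb : b ∈ P) : a * b = b * a := by
  have hd := F.ctx.spec
  have hq := F.ctx.hq
  haveI : Fact d.p.Prime := ⟨hd.prime⟩
  haveI := hd.charP
  obtain ⟨R⟩ := hd.exists_rep
  set f := R.π.comp (Subgroup.inclusion hPL) with hf
  by_cases hrp : r = d.p
  · subst hrp
    have hK : IsPGroup d.p f.range := hP.of_surjective f.rangeRestrict f.rangeRestrict_surjective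
    obtain ⟨T, hT⟩ := hK.exists_le_sylow
    obtain ⟨k, hk⟩ := SL2Sylow.sylow_SL d.p T
    obtain ⟨l, hl, hlk⟩ := R.surj_D hd hq k⁻¹
    have key : ∀ c ∈ P, ∃ x, ∃ hx : x ∈ d.D, ∃ o ∈ d.O, ∃ t : d.F, l * c * l⁻¹ = x * o ∧
        R.π ⟨x, hd.D_le_L hq hx⟩ = uSL t := by
      intro c hc
      have hlc : l * c * l⁻¹ ∈ d.L := d.L_conj (d.D_le hl) (hPL hc)
      obtain ⟨x, hx, o, ho, e⟩ := F.decomp hlc
      obtain ⟨_, ⟨s, rfl⟩, hs⟩ := hk.le (hT ⟨⟨c, hc⟩, rfl⟩)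
      refine ⟨x, hx, o, ho, s.toAdd, e, ?_⟩
      have h1 : R.π ⟨l * c * l⁻¹, hlc⟩ = k⁻¹ * f ⟨c, hc⟩ * k := by
        rw [show (⟨l * c * l⁻¹, hlc⟩ : ↥d.L) = ⟨l, hd.D_le_L hq hl⟩ * ⟨c, hPL hc⟩ * ⟨l, hd.D_le_L hq hl⟩⁻¹ from rfl,
          map_mul, map_mul, map_inv, hlk, inv_inv]
        rfl
      have h2 : R.π ⟨l * c * l⁻¹, hlc⟩ = R.π ⟨x, hd.D_le_L hq hx⟩ := by
        rw [show (⟨l * c * l⁻¹, hlc⟩ : ↥d.L) = ⟨x, hd.D_le_L hq hx⟩ * ⟨o, d.O_le_L ho⟩ from Subtype.ext e, map_mul,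
          (R.ker ⟨o, d.O_le_L ho⟩).2 ho, mul_one]
      rw [← h2, h1, ← hs]
      show k⁻¹ * (k * SL2Sylow.us s * k⁻¹) * k = _
      rw [show k⁻¹ * (k * SL2Sylow.us s * k⁻¹) * k = SL2Sylow.us s by group]
      exact Subtype.ext rfl
    obtain ⟨x, hx, o, ho, s, ea, hxs⟩ := key a ha
    obtain ⟨y, hy, o', ho', t, eb, hyt⟩ := key b hb
    have hxy : Commute x y := F.comm_upper R hx hy hxs hyt
    have h1 : Commute (x * o) (y * o') := (hxy.mul_left (F.ctx.od o ho y hy)).mul_right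
      ((show Commute x o' from (F.ctx.od o' ho' x hx).symm).mul_left (F.O_comm ho ho'))
    rw [← ea, ← eb] at h1
    exact ((Commute.conj_iff l).1 h1).eq
  · haveI : IsCyclic f.range := Safety.rgroup_cyclic d.p hr2 hrp (hP.of_surjective f.rangeRestrict f.rangeRestrict_surjective)
    have hker : f.rangeRestrict.ker ≤ Subgroup.center P := fun c hc => Subgroup.mem_center_iff.2 fun e => Subtype.ext (by
      have h1 : R.π ⟨c, hPL c.2⟩ = 1 := congrArg Subtype.val hc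
      exact F.O_central (hPL e.2) ((R.ker _).1 h1))
    exact congrArg Subtype.val (commutative_of_cyclic_center_quotient f.rangeRestrict hker
      (⟨a, ha⟩ : P) ⟨b, hb⟩)

/-- **`D ∩ O = 1`.** -/
theorem disjoint {x : G} (hx : x ∈ d.D) (hxO : x ∈ d.O) : x = 1 := by
  by_contra hx1
  have hd := F.ctx.spec
  obtain ⟨r, hr, hrd⟩ := Nat.exists_prime_and_dvd (fun e => hx1 (orderOf_eq_one_iff.1 e))
  haveI := Fact.mk hr
  haveI := d.D_perfect
  set y := x ^ (orderOf x / r) with hy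
  have hyo : orderOf y = r := orderOf_pow_orderOf_div (orderOf_pos x).ne' hrd
  have hyD : y ∈ d.D := pow_mem hx _
  have hyO : y ∈ d.O := pow_mem hxO _
  have hr2 : r ≠ 2 := fun e => by
    have := d.O_odd.of_dvd_nat (Subgroup.orderOf_dvd_natCard _ hyO)
    rw [hyo, e] at this
    exact absurd this (by decide)
  set yy : ↥d.D := ⟨y, hyD⟩ with hyy
  have hcen : yy ∈ Subgroup.center ↥d.D :=
    Subgroup.mem_center_iff.2 fun a => Subtype.ext (F.ctx.od y hyO a a.2).symm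
  obtain ⟨P⟩ : Nonempty (Sylow r ↥d.D) := inferInstance
  have hK : IsPGroup r (Subgroup.zpowers yy) :=
    IsPGroup.of_card (n := 1) (by rw [Nat.card_zpowers, pow_one, ← hyo, Subgroup.orderOf_mk])
  have hsup : IsPGroup r ↥((P : Subgroup ↥d.D) ⊔ Subgroup.zpowers yy) :=
    P.2.to_sup_of_normal_left' hK (Subgroup.zpowers_le.2 (Subgroup.mem_normalizer_fintype fun a ha => by
      rw [← Subgroup.mem_center_iff.1 hcen a, mul_inv_cancel_right]; exact ha))
  have hyP : yy ∈ (P : Subgroup ↥d.D) := (P.3 hsup le_sup_left).le (Subgroup.mem_sup_right (Subgroup.mem_zpowers _))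
  haveI : IsMulCommutative (P : Subgroup ↥d.D) := ⟨⟨fun a b => Subtype.ext (Subtype.ext
    (F.comm_L hr2 (P := (P : Subgroup ↥d.D).map d.D.subtype) (P.2.map _)
      (fun c hc => by obtain ⟨c, -, rfl⟩ := hc; exact hd.D_le_L F.ctx.hq c.2) ⟨_, a.2, rfl⟩ ⟨_, b.2, rfl⟩))⟩⟩
  letI : CommGroup (P : Subgroup ↥d.D) := IsMulCommutative.instCommGroup
  set τ : ↥d.D →* (P : Subgroup ↥d.D) := MonoidHom.transfer (MonoidHom.id (P : Subgroup ↥d.D)) with hτ
  have h1 : τ yy = 1 := by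
    have := Abelianization.commutator_subset_ker τ
    rw [Group.IsPerfect.commutator_eq_top (G := ↥d.D)] at this
    exact this (Subgroup.mem_top yy)
  rw [hτ, MonoidHom.transfer_eq_pow] at h1
  swap
  · intro k g₀ hk
    rw [mul_assoc, ← Subgroup.mem_center_iff.1 (pow_mem hcen k) g₀, inv_mul_cancel_left]
  have h2 : orderOf yy ∣ (P : Subgroup ↥d.D).index := orderOf_dvd_of_pow_eq_one (congrArg Subtype.val h1)
  rw [hyy, Subgroup.orderOf_mk, hyo] at h2
  exact P.not_dvd_index h2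

theorem eq_of_decomp {x x' o o' : G} (hx : x ∈ d.D) (hx' : x' ∈ d.D) (ho : o ∈ d.O) (ho' : o' ∈ d.O)
    (e : x * o = x' * o') : x = x' ∧ o = o' := by
  have h1 : x'⁻¹ * x = o' * o⁻¹ := by
    calc x'⁻¹ * x = x'⁻¹ * (x * o) * o⁻¹ := by group
      _ = _ := by rw [e]; group
  have h2 : x'⁻¹ * x = 1 := F.disjoint (mul_mem (inv_mem hx') hx) (h1 ▸ mul_mem ho' (inv_mem ho))
  have hxx : x = x' := (inv_mul_eq_one.1 h2).symm
  exact ⟨hxx, mul_left_cancel (hxx ▸ e)⟩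

/-- An element of `L` of odd prime power order is the product of two. -/
theorem decomp_pow {r : ℕ} {c : G} (hc : c ∈ d.L) {k : ℕ} (hk : c ^ r ^ k = 1) :
    ∃ x ∈ d.D, ∃ o ∈ d.O, c = x * o ∧ x ^ r ^ k = 1 ∧ o ^ r ^ k = 1 := by
  obtain ⟨x, hx, o, ho, rfl⟩ := F.decomp hc
  rw [(show Commute x o from (F.ctx.od o ho x hx).symm).mul_pow] at hk
  obtain ⟨h1, h2⟩ := F.eq_of_decomp (pow_mem hx _) (one_mem _) (pow_mem ho _) (one_mem _)
    (hk.trans (one_mul 1).symm)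
  exact ⟨x, hx, o, ho, rfl, h1, h2⟩

/-- A subgroup of prime power order, the prime dividing `|O|`, is conjugate into the centraliser. -/
theorem rgroup_conj {r : ℕ} [hr : Fact r.Prime] (hrO : r ∣ Nat.card d.O) {P : Subgroup G} (hP : IsPGroup r P) :
    ∃ k : G, ∀ a ∈ P, k * a * k⁻¹ ∈ d.C := by
  obtain ⟨S⟩ : Nonempty (Sylow r ↥d.C) := inferInstance
  have hc : Nat.card ((S : Subgroup ↥d.C).map d.C.subtype) = r ^ (Nat.card G).factorization r := by
    rw [Subgroup.card_map_of_injective d.C.subtype_injective, S.card_eq_multiplicity,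
      Nat.factorization_def _ hr.out, Nat.factorization_def _ hr.out, F.vr r hr.out hrO]
  let S' : Sylow r G := Sylow.ofCard ((S : Subgroup ↥d.C).map d.C.subtype) hc
  obtain ⟨T, hT⟩ := hP.exists_le_sylow
  obtain ⟨k, hk⟩ := MulAction.exists_smul_eq G T S'
  refine ⟨k, fun a ha => ?_⟩
  have h1 : k * a * k⁻¹ ∈ ((k • T : Sylow r G) : Subgroup G) := by
    rw [Sylow.coe_subgroup_smul]
    exact ⟨a, hT ha, rfl⟩
  rw [hk] at h1
  exact Subgroup.map_subtype_le _ h1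

/-- **The subgroups of prime power order, the prime dividing `|O|`, are abelian.** -/
theorem rgroup_comm {r : ℕ} [Fact r.Prime] (hrO : r ∣ Nat.card d.O) {P : Subgroup G} (hP : IsPGroup r P)
    {a b : G} (ha : a ∈ P) (hb : b ∈ P) : a * b = b * a := by
  obtain ⟨k, hk⟩ := F.rgroup_conj hrO hP
  have hr2 : r ≠ 2 := fun e => by
    have := d.O_odd.of_dvd_nat hrO
    rw [e] at this
    exact absurd this (by decide)
  have hodd : ∀ c ∈ P, Odd (orderOf (k * c * k⁻¹)) := fun c hc => by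
    rw [orderOf_cj]
    obtain ⟨n, hn⟩ := hP ⟨c, hc⟩
    exact ((Fact.out : r.Prime).odd_of_ne_two hr2).pow.of_dvd_nat
      (orderOf_dvd_of_pow_eq_one (congrArg Subtype.val hn : c ^ r ^ n = 1))
  have h := F.comm_L hr2 (P := P.map (MulAut.conj k).toMonoidHom) (hP.map _) (fun c hc => by
    obtain ⟨c, hc, rfl⟩ := hc
    exact F.odd_mem (hk c hc) (hodd c hc)) ⟨a, ha, rfl⟩ ⟨b, hb, rfl⟩
  exact ((Commute.conj_iff k).1 (show Commute (k * a * k⁻¹) (k * b * k⁻¹) from h)).eq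

variable {H : Subgroup G} (hzH : d.z ∈ H)
  (hiso : ∀ v ∈ H, v ∈ d.C → orderOf v = 2 → v = d.z)
include hzH hiso

/-- Commutators with `z` lie in the core. -/
theorem commutator_core {a : G} (ha : a ∈ H) : d.z * a * d.z⁻¹ * a⁻¹ ∈ coreIn H := by
  set zz : ↥H := ⟨d.z, hzH⟩
  refine ⟨zz * ⟨a, ha⟩ * zz⁻¹ * ⟨a, ha⟩⁻¹,
    CfsgLib.ZStar.commutator_mem (by rw [Subgroup.orderOf_mk]; exact F.ctx.spec.zord) (fun b hb => ?_) _, rfl⟩
  refine Subtype.ext (hiso ((b : G) * d.z * (b : G)⁻¹) (b * zz * b⁻¹).2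
    (Subgroup.mem_centralizer_singleton_iff.2 ?_) ((orderOf_cj _ _).trans F.ctx.spec.zord))
  exact (congrArg Subtype.val hb.eq).symm

/-- An odd element inverted by `z` lies in the core. -/
theorem mem_core {a : G} (ha : a ∈ H) (hodd : Odd (orderOf a)) (hinv : d.z * a * d.z⁻¹ = a⁻¹) : a ∈ coreIn H := by
  have h1 := inv_mem (F.commutator_core hzH hiso ha)
  rw [hinv, show (a⁻¹ * a⁻¹)⁻¹ = a ^ 2 by group] at h1
  obtain ⟨j, hj⟩ := hodd
  have h2 := pow_mem h1 (j + 1)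
  rwa [← pow_mul, show 2 * (j + 1) = orderOf a + 1 by omega, pow_succ, pow_orderOf_eq_one, one_mul] at h2

/-- An element is a product of one of the core and one fixed by `z`. -/
theorem exists_fixed {a : G} (ha : a ∈ H) : ∃ b ∈ coreIn H, b * a ∈ H ∧ b * a ∈ d.C := by
  have h1 : a * d.z * a⁻¹ * d.z⁻¹ ∈ coreIn H := by
    have := inv_mem (F.commutator_core hzH hiso ha)
    rwa [show (d.z * a * d.z⁻¹ * a⁻¹)⁻¹ = a * d.z * a⁻¹ * d.z⁻¹ by group] at this
  obtain ⟨b, hb, hba⟩ := lift_comm (coreIn_odd H) F.zz (fun o ho => coreIn_conj hzH ho) h1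
  exact ⟨b, hb, mul_mem (coreIn_le H hb) ha, Subgroup.mem_centralizer_singleton_iff.2 hba⟩

/-- The core contains `O`. -/
theorem O_le_core (hO : d.O ≤ H) : d.O ≤ coreIn H := by
  set N : Subgroup G := coreIn H ⊔ d.O with hN
  have hnX : d.O ≤ Subgroup.normalizer (coreIn H : Set G) := fun o ho =>
    Subgroup.mem_normalizer_fintype fun y hy => coreIn_conj (hO ho) hy
  have hNH : N ≤ H := sup_le (coreIn_le H) hO
  have hset : ∀ x ∈ N, ∃ y ∈ coreIn H, ∃ o ∈ d.O, x = y * o := fun x hx => by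
    rw [hN, ← SetLike.mem_coe, Subgroup.coe_mul_of_right_le_normalizer_left _ _ hnX] at hx
    obtain ⟨y, hy, o, ho, rfl⟩ := hx
    exact ⟨y, hy, o, ho, rfl⟩
  have hcard : Odd (Nat.card N) := by
    have h := Subgroup.card_mul_index (coreIn H |>.subgroupOf N)
    rw [← h]
    refine Odd.mul ?_ ?_
    · rw [Nat.card_congr (Subgroup.subgroupOfEquivOfLe (le_sup_left : coreIn H ≤ N)).toEquiv]
      exact coreIn_odd H
    · haveI : ((coreIn H).subgroupOf N).Normal := ⟨fun x hx b => coreIn_conj (hNH b.2) hx⟩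
      let f : ↥d.O →* ↥N ⧸ (coreIn H).subgroupOf N :=
        (QuotientGroup.mk' _).comp (Subgroup.inclusion le_sup_right)
      have hf : Function.Surjective f := fun t => by
        obtain ⟨x, rfl⟩ := QuotientGroup.mk'_surjective _ t
        obtain ⟨y, hy, o, ho, e⟩ := hset x x.2
        refine ⟨⟨o, ho⟩, (QuotientGroup.eq.2 ?_)⟩
        show o⁻¹ * (x : G) ∈ coreIn H
        rw [e, ← mul_assoc]
        simpa using coreIn_conj (inv_mem (hO ho)) hy
      rw [Subgroup.index_eq_card]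
      exact d.O_odd.of_dvd_nat (Subgroup.card_dvd_of_surjective f hf)
  haveI : (N.subgroupOf H).Normal := ⟨fun x hx b => by
    rw [Subgroup.mem_subgroupOf] at hx ⊢
    obtain ⟨y, hy, hyH, hyC⟩ := F.exists_fixed hzH hiso b.2
    have hk : ∀ t ∈ N, (y * (b : G)) * t * (y * (b : G))⁻¹ ∈ N := by
      intro t ht
      obtain ⟨a, ha, o, ho, rfl⟩ := hset t ht
      rw [show (y * (b : G)) * (a * o) * (y * (b : G))⁻¹ =
        ((y * (b : G)) * a * (y * (b : G))⁻¹) * ((y * (b : G)) * o * (y * (b : G))⁻¹) by group]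
      exact mul_mem (Subgroup.mem_sup_left (coreIn_conj hyH ha)) (Subgroup.mem_sup_right (Frame.Spec.O_conj hyC ho))
    have hyN : y ∈ N := Subgroup.mem_sup_left hy
    have := mul_mem (mul_mem (inv_mem hyN) (hk _ hx)) hyN
    simpa [mul_assoc] using this⟩
  intro o ho
  refine ⟨⟨o, hO ho⟩, CfsgLib.le_oddCore ?_ (show (⟨o, hO ho⟩ : ↥H) ∈ N.subgroupOf H from Subgroup.mem_sup_right ho), rfl⟩
  rwa [Nat.card_congr (Subgroup.subgroupOfEquivOfLe hNH).toEquiv]

/-- **An inverted element of prime power order, the prime dividing `|O|`, is trivial.** -/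
theorem inverted_eq_one (hO : d.O ≤ H) {r : ℕ} [hr : Fact r.Prime] (hrO : r ∣ Nat.card d.O) {e : G} (he : e ∈ H)
    {k : ℕ} (hek : e ^ r ^ k = 1) (hinv : d.z * e * d.z⁻¹ = e⁻¹) : e = 1 := by
  set X := coreIn H
  have hr2 : r ≠ 2 := fun e2 => by
    have := d.O_odd.of_dvd_nat hrO
    rw [e2] at this
    exact absurd this (by decide)
  have hodd : Odd (orderOf e) := (hr.out.odd_of_ne_two hr2).pow.of_dvd_nat (orderOf_dvd_of_pow_eq_one hek)
  have heX : e ∈ X := F.mem_core hzH hiso he hodd hinv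
  obtain ⟨a, ha⟩ := exists_prime_orderOf_dvd_card' (G := d.O) r hrO
  have haX : (a : G) ∈ X := F.O_le_core hzH hiso hO a.2
  have ha1 : (a : G) ≠ 1 := fun e1 => hr.out.ne_one (by rw [← ha, show a = 1 from Subtype.ext e1, orderOf_one])
  obtain ⟨Q, hQ⟩ := (IsPGroup.of_card (n := 1) (by rw [Nat.card_zpowers, pow_one, ← ha, Subgroup.orderOf_mk, Subgroup.orderOf_coe]) :
    IsPGroup r (Subgroup.zpowers (⟨(a : G), haX⟩ : ↥X))).exists_le_sylow
  have hQC : ∀ q ∈ (Q : Subgroup ↥X), (q : G) ∈ d.C := fun q hq => F.cent a a.2 ha1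
    (Subgroup.mem_centralizer_singleton_iff.2
      (F.rgroup_comm hrO (Q.2.map X.subtype) ⟨q, hq, rfl⟩ ⟨_, hQ (Subgroup.mem_zpowers _), rfl⟩))
  exact inverted_of_sylow (coreIn_odd H) (fun y hy => coreIn_conj hzH hy) Q
    (by rintro _ ⟨q, hq, rfl⟩; exact hQC q hq) heX hek hinv

end Flat

end CfsgLib.RankTwoModel.L4
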