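import Cfsg.Agent.Lib.RankTwoModel.L4.Safety.Structure
import Cfsg.Agent.Lib.RankTwo.PairTrivial
import Cfsg.Agent.Lib.CoprimeGen

/-!
Safety in D3 for a prime other than the characteristic.

* `Flat.cj`: the situation at a conjugate frame;
* `Flat.conj_core`: an inverted element of prime power order centralising an element of `D` is conjugate into `O`;
* `Flat.not_conj_core`: a mixed element is not;
* `Flat.safe_semisimple`.

Blueprint: `blueprint/RankTwo_L45.md` (v4).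
-/

set_option autoImplicit false
set_option linter.unusedSectionVars false
set_option linter.style.haveILetI false

namespace CfsgLib.RankTwoModel.L4

open Cfsg CfsgLib.BG CfsgLib.PSL2

universe u

variable {G : Type u} [Group G] [Finite G]

namespace Flat

variable {d : Frame G} {g : G} (F : Flat d g)
include F

local notation "SL[" d "]" => Matrix.SpecialLinearGroup (Fin 2) (Frame.F d)

theorem mem_L {d' : Frame G} (hd' : d'.Spec) (hq : 3 < d'.q) {x : G} :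
    x ∈ d'.L ↔ ∃ a ∈ d'.D, ∃ o ∈ d'.O, x = a * o := by
  refine ⟨fun hx => ?_, ?_⟩
  · obtain ⟨y, hy, ho⟩ := hd'.L_cover hq hx
    exact ⟨y, hy, _, ho, (mul_inv_cancel_left y x).symm⟩
  · rintro ⟨a, ha, o, ho, rfl⟩
    exact mul_mem (hd'.D_le_L hq ha) (d'.O_le_L ho)

/-- **The situation at a conjugate frame.** -/
theorem cj {k : G} (hne : k * d.z * k⁻¹ ≠ d.z) (hcm : k * d.z * k⁻¹ * d.z = d.z * (k * d.z * k⁻¹)) :
    Flat (d.cj k) k⁻¹ := by
  have c1 : Ctx d k := ⟨F.ctx.hyp, F.ctx.spec, F.ctx.hq, F.ctx.od, hne, hcm⟩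
  have hz' : inv2 (d.cj k) k⁻¹ = d.z := c1.mirror_inv2
  set w := k⁻¹ * d.z * k with hw
  have hwC : w ∈ d.C := Subgroup.mem_centralizer_singleton_iff.2 (by
    calc k⁻¹ * d.z * k * d.z = k⁻¹ * (d.z * (k * d.z * k⁻¹)) * k := by group
      _ = k⁻¹ * (k * d.z * k⁻¹ * d.z) * k := by rw [hcm]
      _ = d.z * (k⁻¹ * d.z * k) := by group)
  have hw2 : orderOf w = 2 := by rw [hw]; simpa using (orderOf_cj k⁻¹ d.z).trans F.ctx.spec.zord
  have hwz : w ≠ d.z := fun e => hne (by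
    calc k * d.z * k⁻¹ = k * w * k⁻¹ := by rw [e]
      _ = d.z := by rw [hw]; group)
  have hzw : d.z = k * w * k⁻¹ := by rw [hw]; group
  have hmapO : ∀ {x : G}, x ∈ d.O → k * x * k⁻¹ ∈ (d.cj k).O := fun hx => by
    rw [d.cj_O k]; exact ⟨_, hx, rfl⟩
  have hmapL : ∀ {x : G}, x ∈ d.L → k * x * k⁻¹ ∈ (d.cj k).L := fun {x} hx => by
    obtain ⟨a, ha, o, ho, rfl⟩ := (F.mem_L F.ctx.spec F.ctx.hq).1 hx
    refine (F.mem_L (F.ctx.spec.cj k) F.ctx.hq).2 ⟨k * a * k⁻¹, ?_, k * o * k⁻¹, hmapO ho, by group⟩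
    rw [d.cj_D k]; exact ⟨a, ha, rfl⟩
  have hcard : ∀ H : Subgroup G, Nat.card (H.map (MulAut.conj k).toMonoidHom) = Nat.card H := fun H =>
    Subgroup.card_map_of_injective (MulAut.conj k).injective
  refine ⟨c1.mirror, cj_quasiDihedral ?_ F.sd, fun c hc => ?_, fun x hx => ?_, fun r hr hrd => ?_, fun a ha ha1 => ?_,
    fun hp => ?_⟩
  · exact ((d.S : Subgroup G).equivMapOfInjective (MulAut.conj k).toMonoidHom (MulAut.conj k).injective).trans
      (MulEquiv.subgroupCongr (d.cj_S k).symm)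
  · rw [d.cj_C k] at hc
    obtain ⟨c, hc', rfl⟩ := hc
    show k * c * k⁻¹ ∈ _ ∨ _
    rcases F.split_of_invol hwC hw2 hwz hc' with h | h
    · exact Or.inl (hmapL h)
    · refine Or.inr ?_
      rw [hz', hzw]
      show k * w * k⁻¹ * (k * c * k⁻¹) ∈ _
      rw [show k * w * k⁻¹ * (k * c * k⁻¹) = k * (w * c) * k⁻¹ by group]
      exact hmapL h
  · rw [d.cj_O k] at hx
    obtain ⟨x, hx', rfl⟩ := hx
    rw [hz', hzw]
    show k * w * k⁻¹ * (k * x * k⁻¹) * (k * w * k⁻¹)⁻¹ = (k * x * k⁻¹)⁻¹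
    rw [show k * w * k⁻¹ * (k * x * k⁻¹) * (k * w * k⁻¹)⁻¹ = k * (w * x * w⁻¹) * k⁻¹ by group,
      F.invol_inverts hwC hw2 hwz hx']
    group
  · rw [d.cj_O k, hcard] at hrd
    rw [d.cj_C k, hcard]
    exact F.vr r hr hrd
  · rw [d.cj_O k] at ha
    obtain ⟨a, ha', rfl⟩ := ha
    rw [d.cj_C k]
    intro x hx
    have e : x * (k * a * k⁻¹) = k * a * k⁻¹ * x := Subgroup.mem_centralizer_singleton_iff.1 hx
    refine ⟨k⁻¹ * x * k, F.cent a ha' (fun e1 => ha1 (by simp [e1])) (Subgroup.mem_centralizer_singleton_iff.2 ?_),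
      by simp [mul_assoc]⟩
    calc k⁻¹ * x * k * a = k⁻¹ * (x * (k * a * k⁻¹)) * k := by group
      _ = k⁻¹ * (k * a * k⁻¹ * x) * k := by rw [e]
      _ = _ := by group
  · rw [d.cj_O k, hcard] at hp
    obtain ⟨h1, h2, h3⟩ := F.size hp
    refine ⟨h1, h2, ?_⟩
    have he : (d.cj k).C.index = d.C.index := by
      have e1 := (d.cj k).C.card_mul_index
      rw [d.cj_C k, hcard, ← d.C.card_mul_index] at e1
      rw [d.cj_C k]
      exact mul_left_cancel₀ Nat.card_pos.ne' e1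
    rw [he]
    exact h3

/-- Every element of the centraliser acts by a matrix. -/
theorem sigma_GL (R : Rep d) {c : G} (hc : c ∈ d.C) :
    ∃ K : GL (Fin 2) d.F, ∀ A : SL[d], (R.σ ⟨c, hc⟩ A).1 = K.1 * A.1 * (K⁻¹).1 := by
  have hL : ∀ {m : G} (hm : m ∈ d.L), R.σ ⟨m, d.L_le hm⟩ =
      conjSL (Matrix.SpecialLinearGroup.toGL (R.π ⟨m, hm⟩)) := fun {m} hm => by
    refine MulEquiv.ext fun B => Subtype.ext ?_
    show (R.σ ⟨((⟨m, hm⟩ : ↥d.L) : G), _⟩ B).1 = _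
    rw [R.sigma_inner, PSL2.coe_conjSL, ← map_inv Matrix.SpecialLinearGroup.toGL]
    rfl
  rcases F.split c hc with h | h
  · refine ⟨Matrix.SpecialLinearGroup.toGL (R.π ⟨c, h⟩), fun A => ?_⟩
    rw [hL h, PSL2.coe_conjSL]
  · obtain ⟨g₀, -, -, hg₀⟩ := R.invol F.ctx.spec F.ctx.hq F.ctx.hyp F.ctx.inv2_mem F.ctx.inv2_order F.ctx.inv2_ne
    have hσu : R.σ ⟨inv2 d g, F.ctx.inv2_mem⟩ = conjSL g₀ :=
      MulEquiv.ext fun A => Subtype.ext (by rw [hg₀, PSL2.coe_conjSL])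
    refine ⟨g₀ * Matrix.SpecialLinearGroup.toGL (R.π ⟨_, h⟩), fun A => ?_⟩
    rw [show (⟨c, hc⟩ : ↥d.C) = ⟨inv2 d g, F.ctx.inv2_mem⟩ * ⟨inv2 d g * c, d.L_le h⟩ from Subtype.ext (by
      show c = inv2 d g * (inv2 d g * c)
      rw [← mul_assoc, F.uu, one_mul]), map_mul, hσu, hL h, ← map_mul, PSL2.coe_conjSL]

/-- Elements of `D` with the same image are equal. -/
theorem pi_inj (R : Rep d) {x y : G} (hx : x ∈ d.D) (hy : y ∈ d.D)
    (e : R.π ⟨x, F.ctx.spec.D_le_L F.ctx.hq hx⟩ = R.π ⟨y, F.ctx.spec.D_le_L F.ctx.hq hy⟩) : x = y :=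
  inv_mul_eq_one.1 (F.disjoint (mul_mem (inv_mem hx) hy) ((R.ker (⟨x, F.ctx.spec.D_le_L F.ctx.hq hx⟩⁻¹ *
    ⟨y, F.ctx.spec.D_le_L F.ctx.hq hy⟩)).1 (by rw [map_mul, map_inv, e, inv_mul_cancel])))

/-- **An inverted element of prime power order centralising an element of `D` is conjugate into `O`.** -/
theorem conj_core {r : ℕ} [hr : Fact r.Prime] (hrO : r ∣ Nat.card d.O) {e : G} (he : e ∈ d.D)
    (he1 : e ≠ 1) (heo : Odd (orderOf e)) {g₁ : G} {k : ℕ} (hk : g₁ ^ r ^ k = 1) (hc : g₁ * e = e * g₁)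
    (hinv : d.z * g₁ * d.z⁻¹ = g₁⁻¹) : ∃ a ∈ d.O, IsConj g₁ a := by
  obtain ⟨R⟩ := F.ctx.spec.exists_rep
  have hd := F.ctx.spec
  have hq := F.ctx.hq
  have hr2 : r ≠ 2 := fun e2 => by
    have := d.O_odd.of_dvd_nat hrO
    rw [e2] at this
    exact absurd this (by decide)
  set M := Subgroup.centralizer ({e} : Set G) with hM
  have hMm : ∀ {a : G}, a * e = e * a → a ∈ M := fun h => Subgroup.mem_centralizer_singleton_iff.2 h
  obtain ⟨a₀, ha₀⟩ := exists_prime_orderOf_dvd_card' (G := d.O) r hrO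
  have ha₁ : (a₀ : G) ≠ 1 := fun e1 => hr.out.ne_one (by rw [← ha₀, show a₀ = 1 from Subtype.ext e1, orderOf_one])
  have ha₀M : (a₀ : G) ∈ M := hMm (F.ctx.od _ a₀.2 e he)
  have hzM : d.z ∈ M := hMm (Frame.Spec.z_central (d.D_le he)).symm
  obtain ⟨P, hP⟩ := (IsPGroup.of_card (n := 1) (by
    rw [Nat.card_zpowers, pow_one, ← ha₀, Subgroup.orderOf_mk, Subgroup.orderOf_coe]) :
    IsPGroup r (Subgroup.zpowers (⟨(a₀ : G), ha₀M⟩ : ↥M))).exists_le_sylow
  haveI : IsMulCommutative (P : Subgroup ↥M) := ⟨⟨fun a b => Subtype.ext (Subtype.ext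
    (F.rgroup_comm hrO (P.2.map M.subtype) ⟨_, a.2, rfl⟩ ⟨_, b.2, rfl⟩))⟩⟩
  have hPa : ∀ q ∈ (P : Subgroup ↥M), (q : G) * a₀ = a₀ * q := fun q hq' =>
    F.rgroup_comm hrO (P.2.map M.subtype) ⟨q, hq', rfl⟩ ⟨_, hP (Subgroup.mem_zpowers _), rfl⟩
  have hPC : ∀ q ∈ (P : Subgroup ↥M), (q : G) ∈ d.C := fun q hq' =>
    F.cent _ a₀.2 ha₁ (Subgroup.mem_centralizer_singleton_iff.2 (hPa q hq'))
  -- a conjugate in the Sylow subgroup
  have hg₁p : IsPGroup r (Subgroup.zpowers (⟨g₁, hMm hc⟩ : ↥M)) := by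
    obtain ⟨m, -, hm⟩ := (Nat.dvd_prime_pow hr.out).1 (orderOf_dvd_of_pow_eq_one hk)
    exact IsPGroup.of_card (n := m) (by rw [Nat.card_zpowers, Subgroup.orderOf_mk, hm])
  obtain ⟨T, hT⟩ := hg₁p.exists_le_sylow
  obtain ⟨b, hb⟩ := MulAction.exists_smul_eq ↥M T P
  set g₀ : ↥M := b * ⟨g₁, hMm hc⟩ * b⁻¹ with hg₀
  have hg₀P : g₀ ∈ (P : Subgroup ↥M) := by
    rw [← hb, Sylow.coe_subgroup_smul]
    exact ⟨_, hT (Subgroup.mem_zpowers _), rfl⟩
  -- Burnside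
  set zb : ↥M := b * ⟨d.z, hzM⟩ * b⁻¹ with hzb
  have hflip : zb * g₀ * zb⁻¹ = g₀⁻¹ := by
    rw [hzb, hg₀]
    have e1 : (⟨d.z, hzM⟩ : ↥M) * ⟨g₁, hMm hc⟩ * (⟨d.z, hzM⟩ : ↥M)⁻¹ = (⟨g₁, hMm hc⟩ : ↥M)⁻¹ := Subtype.ext hinv
    calc b * ⟨d.z, hzM⟩ * b⁻¹ * (b * ⟨g₁, hMm hc⟩ * b⁻¹) * (b * ⟨d.z, hzM⟩ * b⁻¹)⁻¹
        = b * (⟨d.z, hzM⟩ * ⟨g₁, hMm hc⟩ * (⟨d.z, hzM⟩ : ↥M)⁻¹) * b⁻¹ := by group
      _ = (b * ⟨g₁, hMm hc⟩ * b⁻¹)⁻¹ := by rw [e1]; group
  obtain ⟨n, hn, hne⟩ := P.conj_eq_normalizer_conj_of_mem g₀ zb⁻¹ hg₀P (by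
    rw [inv_inv, hflip]; exact inv_mem hg₀P)
  rw [inv_inv, hflip] at hne
  -- the normaliser lies in the centraliser
  have hnP : ∀ q ∈ (P : Subgroup ↥M), n⁻¹ * q * n ∈ (P : Subgroup ↥M) := fun q hq' =>
    (Subgroup.mem_normalizer_iff''.1 hn q).1 hq'
  have hnC : (n : G) ∈ d.C := by
    set v := (n : G) * d.z * (n : G)⁻¹ with hv
    have hva : v * a₀ = a₀ * v := by
      have h1 := hPC _ (hnP _ (hP (Subgroup.mem_zpowers _)))
      have h2 := Frame.Spec.z_central h1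
      calc v * a₀ = (n : G) * (d.z * ((n : G)⁻¹ * a₀ * n)) * (n : G)⁻¹ := by rw [hv]; group
        _ = (n : G) * (((n : G)⁻¹ * a₀ * n) * d.z) * (n : G)⁻¹ := by
          rw [show d.z * ((n : G)⁻¹ * a₀ * n) = ((n : G)⁻¹ * a₀ * n) * d.z from h2.symm]
        _ = _ := by rw [hv]; group
    have hvC : v ∈ d.C := F.cent _ a₀.2 ha₁ (Subgroup.mem_centralizer_singleton_iff.2 hva)
    have hv2 : orderOf v = 2 := (orderOf_cj _ _).trans hd.zord
    by_cases hvz : v = d.z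
    · refine Subgroup.mem_centralizer_singleton_iff.2 ?_
      exact mul_inv_eq_iff_eq_mul.1 hvz
    · exfalso
      have h1 := F.invol_inverts hvC hv2 hvz a₀.2
      rw [hva, mul_inv_cancel_right] at h1
      exact ha₁ (eq_one_of_sq d.O_odd a₀.2 (by nth_rewrite 1 [h1]; exact inv_mul_cancel _))
  have hg₀o : Odd (orderOf (g₀ : G)) := by
    rw [hg₀, Subgroup.coe_mul, Subgroup.coe_mul, Subgroup.coe_inv, orderOf_cj]
    exact (hr.out.odd_of_ne_two hr2).pow.of_dvd_nat (orderOf_dvd_of_pow_eq_one hk)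
  have hg₀L : (g₀ : G) ∈ d.L := F.odd_mem (hPC _ hg₀P) hg₀o
  obtain ⟨x₀, hx₀, o₀, ho₀, hge⟩ := F.decomp hg₀L
  set m := (n : G)⁻¹ with hm
  have hmC : m ∈ d.C := inv_mem hnC
  have hme : m * e = e * m :=
    (show Commute (n : G) e from Subgroup.mem_centralizer_singleton_iff.1 n.2).inv_left.eq
  have hneG : (g₀ : G)⁻¹ = m * (g₀ : G) * m⁻¹ := by
    rw [hm, inv_inv]; exact congrArg Subtype.val hne
  have hxo : Commute x₀ o₀ := (F.ctx.od o₀ ho₀ x₀ hx₀).symm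
  obtain ⟨hx', -⟩ := F.eq_of_decomp (d.D_conj hmC hx₀) (inv_mem hx₀) (Frame.Spec.O_conj hmC ho₀) (inv_mem ho₀) (by
    rw [show m * x₀ * m⁻¹ * (m * o₀ * m⁻¹) = m * (x₀ * o₀) * m⁻¹ by group, ← hge, ← hneG, hge, hxo.eq, mul_inv_rev])
  have hx₀e : Commute x₀ e := by
    have h1 : Commute (g₀ : G) e := Subgroup.mem_centralizer_singleton_iff.1 g₀.2
    rw [show x₀ = (g₀ : G) * o₀⁻¹ by rw [hge, mul_inv_cancel_right]]
    exact h1.mul_left (show Commute o₀ e from F.ctx.od o₀ ho₀ e he).inv_left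
  obtain ⟨K, hK⟩ := F.sigma_GL R hmC
  set X := R.π ⟨x₀, hd.D_le_L hq hx₀⟩
  set E := R.π ⟨e, hd.D_le_L hq he⟩
  have hEns : ∀ a : d.F, E.1 ≠ a • (1 : Matrix (Fin 2) (Fin 2) d.F) := by
    refine Safety.not_scalar_of_odd (heo.of_dvd_nat ((orderOf_map_dvd R.π _).trans (dvd_of_eq (Subgroup.orderOf_mk _ _)))) ?_
    exact fun e1 => he1 (F.disjoint he ((R.ker _).1 e1))
  have hXE : Commute X.1 E.1 := congrArg Subtype.val
    ((show Commute (⟨x₀, hd.D_le_L hq hx₀⟩ : ↥d.L) ⟨e, hd.D_le_L hq he⟩ from Subtype.ext hx₀e.eq).map R.π).eq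
  have hKE : Commute K.1 E.1 := by
    have h1 : R.σ ⟨m, hmC⟩ E = E := by
      rw [R.compat]
      exact congrArg R.π (Subtype.ext (by show m * e * m⁻¹ = e; rw [hme, mul_inv_cancel_right]))
    have h2 := congrArg Subtype.val h1
    rw [hK] at h2
    show K.1 * E.1 = E.1 * K.1
    conv_rhs => rw [← h2]
    simp [Matrix.mul_assoc]
  have hfix : R.σ ⟨m, hmC⟩ X = X := Subtype.ext (by
    rw [hK, (Safety.commute_of_commute hEns hKE hXE).eq, Matrix.mul_assoc, ← Units.val_mul, mul_inv_cancel,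
      Units.val_one, Matrix.mul_one])
  have hx2 : m * x₀ * m⁻¹ = x₀ := F.pi_inj R (d.D_conj hmC hx₀) hx₀ ((R.compat ⟨m, hmC⟩ ⟨x₀, hd.D_le_L hq hx₀⟩).symm.trans hfix)
  have hx₀1 : x₀ = 1 := by
    obtain ⟨j, hj⟩ : ∃ j, (g₀ : G) ^ r ^ j = 1 := by
      obtain ⟨j, hj⟩ := P.2 ⟨g₀, hg₀P⟩
      exact ⟨j, congrArg (fun t : (P : Subgroup ↥M) => ((t : ↥M) : G)) hj⟩
    rw [hge, hxo.mul_pow] at hj
    obtain ⟨h1, -⟩ := F.eq_of_decomp (pow_mem hx₀ _) (one_mem _) (pow_mem ho₀ _) (one_mem _) (hj.trans (one_mul 1).symm)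
    refine eq_one_of_sq_odd ?_ ((hr.out.odd_of_ne_two hr2).pow.of_dvd_nat (orderOf_dvd_of_pow_eq_one h1))
    have e2 : x₀⁻¹ = x₀ := hx'.symm.trans hx2
    nth_rewrite 1 [← e2]
    exact inv_mul_cancel x₀
  refine ⟨(g₀ : G), by rw [hge, hx₀1, one_mul]; exact ho₀, isConj_iff.2 ⟨(b : G), ?_⟩⟩
  rw [hg₀]; rfl

/-- **A mixed element is conjugate to no element of `O`.** -/
theorem not_conj_core {x o a : G} (hx : x ∈ d.D) (hx1 : x ≠ 1) (ho : o ∈ d.O) (ha : a ∈ d.O) :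
    ¬ IsConj (x * o) a := by
  intro hcj
  obtain ⟨m, hm⟩ := isConj_iff.1 hcj
  have ha1 : a ≠ 1 := fun e => hx1 (F.eq_of_decomp hx (one_mem _) ho (one_mem _) (by
    rw [e, mul_inv_eq_one] at hm
    rw [one_mul]
    exact mul_left_cancel (hm.trans (mul_one m).symm))).1
  have hgC : x * o ∈ d.C := mul_mem (d.D_le hx) (d.O_le ho)
  set v := m * d.z * m⁻¹ with hv
  have hva : v * a = a * v := by
    have e := Frame.Spec.z_central hgC
    rw [hv, ← hm]
    calc m * d.z * m⁻¹ * (m * (x * o) * m⁻¹) = m * (d.z * (x * o)) * m⁻¹ := by group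
      _ = m * (x * o * d.z) * m⁻¹ := by rw [show d.z * (x * o) = x * o * d.z from e.symm]
      _ = _ := by group
  have hvC : v ∈ d.C := F.cent a ha ha1 (Subgroup.mem_centralizer_singleton_iff.2 hva)
  by_cases hvz : v = d.z
  · have hmC : m ∈ d.C := Subgroup.mem_centralizer_singleton_iff.2 (mul_inv_eq_iff_eq_mul.1 hvz)
    have hgO : x * o ∈ d.O := by
      have := Frame.Spec.O_conj (inv_mem hmC) ha
      rwa [← hm, show m⁻¹ * (m * (x * o) * m⁻¹) * m⁻¹⁻¹ = x * o by group] at this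
    exact hx1 (F.disjoint hx (by simpa using mul_mem hgO (inv_mem ho)))
  · have h1 := F.invol_inverts hvC ((orderOf_cj _ _).trans F.ctx.spec.zord) hvz ha
    rw [hva, mul_inv_cancel_right] at h1
    exact ha1 (eq_one_of_sq d.O_odd ha (by nth_rewrite 1 [h1]; exact inv_mul_cancel _))

/-- `z` is isolated in the centraliser of a mixed element. -/
theorem isolated {x o : G} (hx : x ∈ d.D) (ho : o ∈ d.O) (ho1 : o ≠ 1) {v : G}
    (hv : v ∈ Subgroup.centralizer ({x * o} : Set G)) (hvC : v ∈ d.C) (hv2 : orderOf v = 2) : v = d.z := by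
  by_contra hvz
  have e : v * (x * o) * v⁻¹ = x * o :=
    mul_inv_eq_iff_eq_mul.2 (Subgroup.mem_centralizer_singleton_iff.1 hv)
  obtain ⟨-, h1⟩ := F.eq_of_decomp (d.D_conj hvC hx) hx (inv_mem ho) ho (by
    rw [← F.invol_inverts hvC hv2 hvz ho]
    calc v * x * v⁻¹ * (v * o * v⁻¹) = v * (x * o) * v⁻¹ := by group
      _ = _ := e)
  exact ho1 (eq_one_of_sq d.O_odd ho (by nth_rewrite 1 [← h1]; exact inv_mul_cancel _))

/-- When the inverted odd elements are trivial the centraliser lies in `C`. -/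
theorem centralizer_le {x o : G} (hx : x ∈ d.D) (ho : o ∈ d.O) (ho1 : o ≠ 1)
    (hno : ∀ e ∈ Subgroup.centralizer ({x * o} : Set G), ∀ s : ℕ, s.Prime → orderOf e = s →
      d.z * e * d.z⁻¹ = e⁻¹ → Odd s → False) :
    Subgroup.centralizer ({x * o} : Set G) ≤ d.C := by
  set H := Subgroup.centralizer ({x * o} : Set G) with hH
  have hzH : d.z ∈ H := Subgroup.mem_centralizer_singleton_iff.2
    (Frame.Spec.z_central (mul_mem (d.D_le hx) (d.O_le ho))).symm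
  have hiso : ∀ v ∈ H, v ∈ d.C → orderOf v = 2 → v = d.z := fun v => F.isolated hx ho ho1
  intro a ha
  obtain ⟨b, hb, -, hbaC⟩ := F.exists_fixed hzH hiso ha
  have hzN : d.z ∈ Subgroup.normalizer (coreIn H : Set G) :=
    Subgroup.mem_normalizer_fintype fun y hy => coreIn_conj hzH hy
  obtain ⟨c, hc, r, hr, hzc, hzr, e⟩ := exists_fixed_mul_inverted (coreIn_odd H) hzN F.zz hb
  have hr1 : r = 1 := by
    by_contra hr1
    have hodd : Odd (orderOf r) := (coreIn_odd H).of_dvd_nat (Subgroup.orderOf_dvd_natCard _ hr)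
    obtain ⟨s, hs, hsd⟩ := Nat.exists_prime_and_dvd (fun e1 => hr1 (orderOf_eq_one_iff.1 e1))
    refine hno (r ^ (orderOf r / s)) (pow_mem (coreIn_le H hr) _) s hs
      (orderOf_pow_orderOf_div (orderOf_pos r).ne' hsd) ?_ (hodd.of_dvd_nat hsd)
    rw [← conj_pow, hzr, inv_pow]
  have hbC : b ∈ d.C := by
    rw [e, hr1, mul_one]
    exact Subgroup.mem_centralizer_singleton_iff.2 (mul_inv_eq_iff_eq_mul.1 hzc).symm
  have := mul_mem (inv_mem hbC) hbaC
  rwa [inv_mul_cancel_left] at this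

/-- No inverted element survives at an involution inverting the mixed element. -/
theorem no_inverted_at {x o : G} (hx : x ∈ d.D) (hx1 : x ≠ 1) (ho : o ∈ d.O) {r : ℕ} [hr : Fact r.Prime]
    (hrO : r ∣ Nat.card d.O) {j : ℕ} (hj : (x * o) ^ r ^ j = 1) {k : G} (hne : k * d.z * k⁻¹ ≠ d.z)
    (hcm : k * d.z * k⁻¹ * d.z = d.z * (k * d.z * k⁻¹))
    (hvg : k * d.z * k⁻¹ * (x * o) * (k * d.z * k⁻¹)⁻¹ = (x * o)⁻¹) {e : G} {s : ℕ} (hs : s.Prime) (hs2 : s ≠ 2)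
    {i : ℕ} (hi : e ^ s ^ i = 1) (hsO : ¬ s ∣ Nat.card d.O) (hev : e * (k * d.z * k⁻¹) = k * d.z * k⁻¹ * e)
    (heg : e * (x * o) = x * o * e) : e = 1 := by
  have F' := F.cj hne hcm
  haveI := Fact.mk hs
  by_contra he1
  have hodd : Odd (orderOf e) := (hs.odd_of_ne_two hs2).pow.of_dvd_nat (orderOf_dvd_of_pow_eq_one hi)
  have heC : e ∈ (d.cj k).C := Subgroup.mem_centralizer_singleton_iff.2 hev
  obtain ⟨e', he', o', ho', hee, -, ho'p⟩ := F'.decomp_pow (F'.odd_mem heC hodd) hi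
  have ho'1 : o' = 1 := by
    obtain ⟨m, -, hm⟩ := (Nat.dvd_prime_pow hs).1 (orderOf_dvd_of_pow_eq_one ho'p)
    rcases Nat.eq_zero_or_pos m with rfl | hm0
    · rwa [pow_zero, orderOf_eq_one_iff] at hm
    · exfalso
      apply hsO
      have h1 : orderOf o' ∣ Nat.card (d.cj k).O := Subgroup.orderOf_dvd_natCard _ ho'
      rw [d.cj_O k, Subgroup.card_map_of_injective (MulAut.conj k).injective, hm] at h1
      exact (dvd_pow_self s hm0.ne').trans h1
  rw [ho'1, mul_one] at hee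
  rw [← hee] at he'
  have hrO' : r ∣ Nat.card (d.cj k).O := by
    rw [d.cj_O k, Subgroup.card_map_of_injective (MulAut.conj k).injective]; exact hrO
  obtain ⟨a, ha, hca⟩ := F'.conj_core hrO' he' he1 hodd hj heg.symm hvg
  rw [d.cj_O k] at ha
  obtain ⟨a', ha', rfl⟩ := ha
  exact F.not_conj_core hx hx1 ho ha' (hca.trans (isConj_iff.2 ⟨k⁻¹, by simp [mul_assoc]⟩))

/-- **Safety of the mixed elements of semisimple type.** -/
theorem safe_semisimple {x o : G} (hx : x ∈ d.D) (hx1 : x ≠ 1) (ho : o ∈ d.O) (ho1 : o ≠ 1) {r : ℕ}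
    [hr : Fact r.Prime] (hrp : r ≠ d.p) {j : ℕ} (hxj : x ^ r ^ j = 1) (hoj : o ^ r ^ j = 1) :
    Subgroup.centralizer ({x * o} : Set G) ≤ d.C := by
  obtain ⟨R⟩ := F.ctx.spec.exists_rep
  have hd := F.ctx.spec
  have hq := F.ctx.hq
  haveI : Fact d.p.Prime := ⟨hd.prime⟩
  haveI := hd.charP
  have hrO : r ∣ Nat.card d.O := by
    obtain ⟨m, -, hm⟩ := (Nat.dvd_prime_pow hr.out).1 (orderOf_dvd_of_pow_eq_one hoj)
    rcases Nat.eq_zero_or_pos m with rfl | hm0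
    · exact absurd (by rwa [pow_zero, orderOf_eq_one_iff] at hm) ho1
    · exact (dvd_pow_self r hm0.ne').trans (hm ▸ Subgroup.orderOf_dvd_natCard _ ho)
  have hr2 : r ≠ 2 := fun e2 => by
    have := d.O_odd.of_dvd_nat hrO
    rw [e2] at this
    exact absurd this (by decide)
  have hxo : Commute x o := (F.ctx.od o ho x hx).symm
  have hj : (x * o) ^ r ^ j = 1 := by rw [hxo.mul_pow, hxj, hoj, one_mul]
  -- an involution inverting it
  set k₀ := R.π ⟨x, hd.D_le_L hq hx⟩ with hk₀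
  have hk1 : k₀ ≠ 1 := fun e => hx1 (F.disjoint hx ((R.ker _).1 e))
  have hktr : k₀.1.trace ^ 2 ≠ 4 := SL2Tori.trace_ne_of_odd d.p hr.out hr2 hrp (k := j) (by
    rw [hk₀, ← map_pow, show (⟨x, hd.D_le_L hq hx⟩ : ↥d.L) ^ r ^ j = 1 from Subtype.ext hxj, map_one]) hk1
  obtain ⟨g₀, htr, hns, hg₀⟩ := R.invol hd hq F.ctx.hyp F.ctx.inv2_mem F.ctx.inv2_order F.ctx.inv2_ne
  obtain ⟨M, hMtr, hMns, hMdet, hMk⟩ := Safety.exists_inverting hd.odd_card hktr (GW.Model.det_ne g₀)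
  obtain ⟨A, hA⟩ := Safety.exists_conj_of_det hd.odd_card htr hns hMtr hMns hMdet
  obtain ⟨l, hl, hlA⟩ := R.surj_D hd hq A
  set v := (l * g) * d.z * (l * g)⁻¹ with hv
  have hvl : v = l * inv2 d g * l⁻¹ := by rw [hv]; show _ = l * (g * d.z * g⁻¹) * l⁻¹; group
  have hvC : v ∈ d.C := hvl ▸ mul_mem (mul_mem (d.D_le hl) F.ctx.inv2_mem) (inv_mem (d.D_le hl))
  have hv2 : orderOf v = 2 := (orderOf_cj _ _).trans hd.zord
  have hvz : v ≠ d.z := fun e => F.ctx.inv2_ne (by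
    have e1 := Frame.Spec.z_central (d.D_le hl)
    calc inv2 d g = l⁻¹ * v * l := by rw [hvl]; group
      _ = l⁻¹ * (d.z * l) := by rw [e, mul_assoc]
      _ = d.z := by rw [← e1, inv_mul_cancel_left])
  have hσv : ∀ B : SL[d], (R.σ ⟨v, hvC⟩ B).1 = M.1 * B.1 * (M⁻¹).1 := by
    have hl' : R.σ ⟨l, d.D_le hl⟩ = conjSL (Matrix.SpecialLinearGroup.toGL A) := by
      refine MulEquiv.ext fun B => Subtype.ext ?_
      show (R.σ ⟨((⟨l, hd.D_le_L hq hl⟩ : ↥d.L) : G), _⟩ B).1 = _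
      rw [R.sigma_inner, hlA, PSL2.coe_conjSL, ← map_inv]
      rfl
    have hu : R.σ ⟨inv2 d g, F.ctx.inv2_mem⟩ = conjSL g₀ :=
      MulEquiv.ext fun B => Subtype.ext (by rw [hg₀, PSL2.coe_conjSL])
    have hMe : Matrix.SpecialLinearGroup.toGL A * g₀ * (Matrix.SpecialLinearGroup.toGL A)⁻¹ = M := by
      refine Units.ext ?_
      rw [Units.val_mul, Units.val_mul, ← map_inv]
      exact hA
    intro B
    rw [show (⟨v, hvC⟩ : ↥d.C) = ⟨l, d.D_le hl⟩ * ⟨inv2 d g, F.ctx.inv2_mem⟩ * (⟨l, d.D_le hl⟩ : ↥d.C)⁻¹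
      from Subtype.ext hvl, map_mul, map_mul, map_inv, hl', hu, ← map_inv, ← map_mul, ← map_mul, hMe, PSL2.coe_conjSL]
  have hvx : v * x * v⁻¹ = x⁻¹ := F.pi_inj R (d.D_conj hvC hx) (inv_mem hx) (by
    refine ((R.compat ⟨v, hvC⟩ ⟨x, hd.D_le_L hq hx⟩).symm).trans (Subtype.ext ?_)
    rw [hσv, hMk, show (⟨x⁻¹, hd.D_le_L hq (inv_mem hx)⟩ : ↥d.L) = ⟨x, hd.D_le_L hq hx⟩⁻¹ from rfl, map_inv])
  have hvg : v * (x * o) * v⁻¹ = (x * o)⁻¹ := by
    rw [show v * (x * o) * v⁻¹ = (v * x * v⁻¹) * (v * o * v⁻¹) by group, hvx, F.invol_inverts hvC hv2 hvz ho,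
      hxo.eq, mul_inv_rev]
  have hvz' : v * d.z = d.z * v := Frame.Spec.z_central hvC
  -- the second involution
  obtain ⟨w, hw, hwv⟩ := F.ctx.hyp.swap_D hd hq hvC hv2 hvz
  have hwk : (w * (l * g)) * d.z * (w * (l * g))⁻¹ = d.z * v := by rw [← hwv, hv]; group
  have hzvg : d.z * v * (x * o) * (d.z * v)⁻¹ = (x * o)⁻¹ := by
    rw [show d.z * v * (x * o) * (d.z * v)⁻¹ = d.z * (v * (x * o) * v⁻¹) * d.z⁻¹ by group, hvg,
      ← Frame.Spec.z_central (inv_mem (mul_mem (d.D_le hx) (d.O_le ho))), mul_inv_cancel_right]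
  have hzv_ne : d.z * v ≠ d.z := fun e => by
    have := hv2
    rw [mul_eq_left.1 e, orderOf_one] at this
    omega
  refine F.centralizer_le hx ho ho1 fun e he s hs hes hzei hso => ?_
  haveI := Fact.mk hs
  set H := Subgroup.centralizer ({x * o} : Set G) with hH
  have hzH : d.z ∈ H := Subgroup.mem_centralizer_singleton_iff.2
    (Frame.Spec.z_central (mul_mem (d.D_le hx) (d.O_le ho))).symm
  have hiso : ∀ t ∈ H, t ∈ d.C → orderOf t = 2 → t = d.z := fun t => F.isolated hx ho ho1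
  have hOH : d.O ≤ H := fun b hb => Subgroup.mem_centralizer_singleton_iff.2
    ((show Commute b x from F.ctx.od b hb x hx).mul_right (F.O_comm hb ho)).eq
  have he1 : e ≠ 1 := fun e1 => hs.ne_one (by rw [← hes, e1, orderOf_one])
  have hes' : e ^ s ^ 1 = 1 := by rw [pow_one, ← hes, pow_orderOf_eq_one]
  refine he1 ?_
  by_cases hsO : s ∣ Nat.card d.O
  · exact F.inverted_eq_one hzH hiso hOH hsO he hes' hzei
  have hs2 : s ≠ 2 := fun e2 => by rw [e2] at hso; exact absurd hso (by decide)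
  have heX : e ∈ coreIn H := F.mem_core hzH hiso he (by rw [hes]; exact hso) hzei
  -- the four group acts on the core
  have hvN : ∀ y ∈ coreIn H, v * y * v⁻¹ ∈ coreIn H := by
    have hvH : ∀ a ∈ H, v * a * v⁻¹ ∈ H := fun a ha => Subgroup.mem_centralizer_singleton_iff.2 (by
      have h0 : Commute a (x * o) := Subgroup.mem_centralizer_singleton_iff.1 ha
      have h1 := (Commute.conj_iff v).2 h0.inv_right
      rw [show v * (x * o)⁻¹ * v⁻¹ = (v * (x * o) * v⁻¹)⁻¹ by group, hvg, inv_inv] at h1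
      exact h1.eq)
    have hN : Subgroup.zpowers v ≤ Subgroup.normalizer (H : Set G) :=
      Subgroup.zpowers_le.2 (Subgroup.mem_normalizer_fintype hvH)
    have h2 := (CfsgLib.le_normalizer_map_characteristic hN (oddCore ↥H)).1 (Subgroup.mem_zpowers v)
    exact fun y hy => (Subgroup.mem_normalizer_iff.1 h2 y).1 hy
  set V := four d.z v with hV
  have hVN : V ≤ Subgroup.normalizer (coreIn H : Set G) := four_le
    (Subgroup.mem_normalizer_fintype fun y hy => coreIn_conj hzH hy) (Subgroup.mem_normalizer_fintype hvN)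
  haveI hVk := isKleinFour_four hd.zord hv2 hvz'.symm hvz
  have hVcop : (Nat.card V).Coprime (Nat.card (coreIn H)) := by
    rw [hVk.card_four]
    exact Nat.Coprime.pow_left 2 (Nat.coprime_two_left.2 (coreIn_odd H))
  haveI hVc : IsMulCommutative V :=
    ⟨⟨fun a b => Subtype.ext (four_comm hd.zord hv2 hvz'.symm hvz a.2 b.2)⟩⟩
  obtain ⟨S, hS⟩ := CfsgLib.coprime_exists_invariant_sylow hVN hVcop
    (Or.inl (Group.isSolvable_of_comm fun a b => hVc.is_comm.comm a b)) s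
  set SG := (S : Subgroup ↥(coreIn H)).map (coreIn H).subtype with hSG
  have hSC : SG ≤ d.C := by
    rw [← CfsgLib.coprime_generated_by_centralizers (A := V) (K := SG) IsKleinFour.not_isCyclic hS
      (hVcop.coprime_dvd_right (Subgroup.card_dvd_of_le (Subgroup.map_subtype_le _)))]
    refine iSup₂_le fun a ha t ht => ?_
    rcases (mem_four hd.zord hv2 hvz'.symm).1 ha.1 with rfl | rfl | rfl | rfl
    · exact absurd rfl ha.2
    · exact Subgroup.mem_centralizer_singleton_iff.2 (Subgroup.mem_centralizer_singleton_iff.1 ht.2)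
    all_goals
      set Y := SG ⊓ Subgroup.centralizer {_} with hY
      have hzY : d.z ∈ Subgroup.normalizer (Y : Set G) := Subgroup.mem_normalizer_fintype fun y hy => by
        refine ⟨(Subgroup.mem_normalizer_iff.1 (hS (left_mem_four _ _)) y).1 hy.1, ?_⟩
        refine Subgroup.mul_mem _ (Subgroup.mul_mem _ ?_ hy.2) (Subgroup.inv_mem _ ?_) <;> exact Subgroup.mem_centralizer_singleton_iff.2 (by
          first | exact hvz'.symm | rw [mul_assoc, hvz'])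
      obtain ⟨c, hc, b, hb, hzc, hzb, et⟩ := exists_fixed_mul_inverted
        ((coreIn_odd H).of_dvd_nat ((Subgroup.card_dvd_of_le (inf_le_left : Y ≤ SG)).trans
          (Subgroup.card_dvd_of_le (Subgroup.map_subtype_le _)))) hzY F.zz ht
      have hb1 : b = 1 := by
        obtain ⟨q, hq', rfl⟩ := hb.1
        obtain ⟨i, hi⟩ := S.2 ⟨q, hq'⟩
        have hi' : (q : G) ^ s ^ i = 1 := by
          simpa using congrArg (fun t : (S : Subgroup ↥(coreIn H)) => (((t : ↥(coreIn H))) : G)) hi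
        have heg : (q : G) * (x * o) = x * o * (q : G) :=
          Subgroup.mem_centralizer_singleton_iff.1 (coreIn_le H q.2)
        first
        | exact F.no_inverted_at hx hx1 ho hrO hj (k := l * g) hvz hvz' hvg hs hs2 hi' hsO
            (Subgroup.mem_centralizer_singleton_iff.1 hb.2) heg
        | exact F.no_inverted_at hx hx1 ho hrO hj (k := w * (l * g)) (by rw [hwk]; exact hzv_ne)
            (by rw [hwk, mul_assoc, hvz']) (by rw [hwk]; exact hzvg) hs hs2 hi' hsO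
            (by rw [hwk]; exact Subgroup.mem_centralizer_singleton_iff.1 hb.2) heg
      rw [et, hb1, mul_one]
      exact Subgroup.mem_centralizer_singleton_iff.2 (mul_inv_eq_iff_eq_mul.1 hzc).symm
  exact inverted_of_sylow (coreIn_odd H) (fun y hy => coreIn_conj hzH hy) S hSC heX hes' hzei

end Flat

end CfsgLib.RankTwoModel.L4
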