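import Cfsg.Agent.Lib.RankTwoModel.L4.Safety.UnipotentLocal
import Cfsg.Agent.Lib.RankTwoModel.L4.Index
import Cfsg.Agent.Lib.RankTwoModel.L4.Safety.Arith
import Mathlib.LinearAlgebra.Dual.Lemmas
import Mathlib.GroupTheory.SpecificGroups.Cyclic

/-!
The safety at the prime of the field: `C(x o) ≤ C` for `x ∈ D`, `o ∈ O` of order `p`, when `O` is a `p`-group.

* `Flat.exists_graph`: a nontrivial inverted element gives one fixed by a graph `{x(a) o^(ψ a)}` over the root group;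
* `Flat.safe_unipotent`: the torus images of that graph give too many elements.

Blueprint: `blueprint/RankTwo_L45.md` (v4, safety, `r = p`).
-/

set_option autoImplicit false
set_option linter.unusedSectionVars false
set_option linter.style.haveILetI false

namespace CfsgLib.RankTwoModel.L4

open Cfsg CfsgLib.BG CfsgLib.PSL2
open scoped IsMulCommutative

universe u

variable {G : Type u} [Group G] [Finite G] {d : Frame G}

/-- The lift of a root element into `D`. -/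
noncomputable def rootLift (hd : d.Spec) (hq : 3 < d.q) (R : Rep d) (a : d.F) : G :=
  (R.surj_D hd hq (uSL a)).choose

/-- The element of the root group times a power of `o`. -/
noncomputable def rootEl (hd : d.Spec) (hq : 3 < d.q) (R : Rep d) (o : G) (a : d.F) (j : ZMod d.p) : G :=
  rootLift hd hq R a * o ^ j.val

/-- The elements of odd order inverted by `z` centralising a set. -/
def invSet (d : Frame G) (T : Set G) : Set G :=
  {e | Odd (orderOf e) ∧ d.z * e * d.z⁻¹ = e⁻¹ ∧ ∀ t ∈ T, Commute e t}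

theorem invSet_conj {T : Set G} {x e : G} (hx : x ∈ d.C) (hxT : ∀ t ∈ T, Commute x t) (he : e ∈ invSet d T) :
    x * e * x⁻¹ ∈ invSet d T := by
  refine ⟨by rw [orderOf_cj]; exact he.1, ?_, fun t ht => ?_⟩
  · calc d.z * (x * e * x⁻¹) * d.z⁻¹ = (d.z * x) * e * (d.z * x)⁻¹ := by group
      _ = (x * d.z) * e * (x * d.z)⁻¹ := by rw [Frame.Spec.z_central hx]
      _ = x * (d.z * e * d.z⁻¹) * x⁻¹ := by group
      _ = (x * e * x⁻¹)⁻¹ := by rw [he.2.1]; group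
  · exact ((hxT t ht).mul_left (he.2.2 t ht)).mul_left (hxT t ht).inv_left

/-- Conjugation on a stable subgroup. -/
def cjOn (W : Subgroup G) (x : G) (hx : ∀ w ∈ W, x * w * x⁻¹ ∈ W) : ↥W →* ↥W :=
  ((MulAut.conj x).toMonoidHom.comp W.subtype).codRestrict W fun w => hx w w.2

theorem cjOn_eq_self {W : Subgroup G} {x : G} {hx : ∀ w ∈ W, x * w * x⁻¹ ∈ W} {w : ↥W} :
    cjOn W x hx w = w ↔ Commute x (w : G) := by
  rw [Subtype.ext_iff]
  exact mul_inv_eq_iff_eq_mul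

/-- The properties of a generating set of commuting inverted elements pass to the group. -/
theorem inv_closure {S : Set G} (hc : ∀ a ∈ S, ∀ b ∈ S, a * b = b * a)
    (hS : ∀ e ∈ S, Odd (orderOf e) ∧ d.z * e * d.z⁻¹ = e⁻¹ ∧ (orderOf e).Coprime d.p) {e : G}
    (he : e ∈ Subgroup.closure S) : Odd (orderOf e) ∧ d.z * e * d.z⁻¹ = e⁻¹ ∧ (orderOf e).Coprime d.p := by
  haveI := Subgroup.isMulCommutative_closure hc
  induction he using Subgroup.closure_induction with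
  | mem e he => exact hS e he
  | one => simp [orderOf_one]
  | mul a b ha hb iha ihb =>
    have hab : Commute a b := congrArg Subtype.val
      (mul_comm (⟨a, ha⟩ : ↥(Subgroup.closure S)) ⟨b, hb⟩)
    refine ⟨(iha.1.mul ihb.1).of_dvd_nat hab.orderOf_mul_dvd_mul_orderOf, ?_,
      (Nat.Coprime.mul_left iha.2.2 ihb.2.2).coprime_dvd_left hab.orderOf_mul_dvd_mul_orderOf⟩
    rw [← conj_mul, iha.2.1, ihb.2.1, ← mul_inv_rev, hab.eq]
  | inv a _ ih => exact ⟨by rw [orderOf_inv]; exact ih.1, by rw [← conj_inv, ih.2.1], by rw [orderOf_inv]; exact ih.2.2⟩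

namespace Flat

variable {g : G} (F : Flat d g) (R : Rep d)

local notation "J" => rootLift (Ctx.spec (Flat.ctx F)) (Ctx.hq (Flat.ctx F)) R
local notation "el" => rootEl (Ctx.spec (Flat.ctx F)) (Ctx.hq (Flat.ctx F)) R

include F in
theorem eq_of_pi {x y : G} (hx : x ∈ d.D) (hy : y ∈ d.D)
    (h : R.π ⟨x, F.ctx.spec.D_le_L F.ctx.hq hx⟩ = R.π ⟨y, F.ctx.spec.D_le_L F.ctx.hq hy⟩) : x = y := by
  refine inv_mul_eq_one.1 (F.disjoint (mul_mem (inv_mem hx) hy) ((R.ker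
    ((⟨x, F.ctx.spec.D_le_L F.ctx.hq hx⟩ : ↥d.L)⁻¹ * ⟨y, F.ctx.spec.D_le_L F.ctx.hq hy⟩)).1 ?_))
  rw [map_mul, map_inv, h, inv_mul_cancel]

theorem rootLift_mem (a : d.F) : J a ∈ d.D := (R.surj_D F.ctx.spec F.ctx.hq (uSL a)).choose_spec.choose

theorem rootLift_pi (a : d.F) : R.π ⟨J a, F.ctx.spec.D_le_L F.ctx.hq (F.rootLift_mem R a)⟩ = uSL a :=
  (R.surj_D F.ctx.spec F.ctx.hq (uSL a)).choose_spec.choose_spec

theorem rootLift_eq {a : d.F} {x : G} (hx : x ∈ d.D)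
    (h : R.π ⟨x, F.ctx.spec.D_le_L F.ctx.hq hx⟩ = uSL a) : x = J a :=
  F.eq_of_pi R hx (F.rootLift_mem R a) (h.trans (F.rootLift_pi R a).symm)

theorem rootLift_add (a b : d.F) : J (a + b) = J a * J b := by
  refine (F.rootLift_eq R (mul_mem (F.rootLift_mem R a) (F.rootLift_mem R b)) ?_).symm
  rw [show (⟨J a * J b, F.ctx.spec.D_le_L F.ctx.hq (mul_mem (F.rootLift_mem R a) (F.rootLift_mem R b))⟩ : ↥d.L) =
    ⟨J a, F.ctx.spec.D_le_L F.ctx.hq (F.rootLift_mem R a)⟩ * ⟨J b, F.ctx.spec.D_le_L F.ctx.hq (F.rootLift_mem R b)⟩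
    from rfl, map_mul, F.rootLift_pi, F.rootLift_pi, Safety.uSL_mul]

theorem rootLift_zero : J (0 : d.F) = 1 := by
  have h := F.rootLift_add R 0 0
  rwa [add_zero, left_eq_mul] at h

variable [Fact d.p.Prime] {o : G} (ho : o ∈ d.O) (hop : o ^ d.p = 1)

include ho in
theorem rootEl_mem (a : d.F) (j : ZMod d.p) : el o a j ∈ d.C :=
  mul_mem (d.D_le (F.rootLift_mem R a)) (d.O_le (pow_mem ho _))

include ho hop in
theorem rootEl_add (a b : d.F) (i j : ZMod d.p) : el o (a + b) (i + j) = el o a i * el o b j := by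
  have h1 : o ^ (i + j).val = o ^ i.val * o ^ j.val := by rw [← pow_add, ZMod.val_add, ← pow_eq_pow_mod _ hop]
  have h2 : Commute (o ^ i.val) (J b) := F.ctx.od _ (pow_mem ho _) _ (F.rootLift_mem R b)
  simp only [rootEl, F.rootLift_add R, h1]
  calc J a * J b * (o ^ i.val * o ^ j.val) = J a * (J b * o ^ i.val) * o ^ j.val := by group
    _ = _ := by rw [← h2.eq]; group

include ho hop in
theorem rootEl_comm (a b : d.F) (i j : ZMod d.p) : Commute (el o a i) (el o b j) := by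
  show _ * _ = _ * _
  rw [← F.rootEl_add R ho hop, ← F.rootEl_add R ho hop, add_comm a, add_comm i]

theorem rootEl_one : el o (0 : d.F) 1 = o := by
  rw [rootEl, F.rootLift_zero R, one_mul, ZMod.val_one, pow_one]

include ho hop in
theorem rootEl_nsmul (a : d.F) (n : ℕ) : el o (n • a) (n : ZMod d.p) = el o a 1 ^ n := by
  induction n with
  | zero => rw [zero_smul, Nat.cast_zero, rootEl, F.rootLift_zero R, ZMod.val_zero, pow_zero, pow_zero, one_mul]
  | succ n ih => rw [succ_nsmul, Nat.cast_succ, F.rootEl_add R ho hop, ih, pow_succ]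

/-- The graph of a functional over the root group. -/
def graph (o : G) (ψ : d.F →+ ZMod d.p) : Set G := Set.range fun a => el o a (ψ a)

section Avg

variable {W : Subgroup G} [IsMulCommutative W]

theorem pow_eq_one_elim (hprop : ∀ w ∈ W, Odd (orderOf w) ∧ d.z * w * d.z⁻¹ = w⁻¹ ∧ (orderOf w).Coprime d.p)
    (w : ↥W) (k : ℕ) (h : w ^ d.p ^ k = 1) : w = 1 := by
  refine orderOf_eq_one_iff.1 (Nat.eq_one_of_dvd_coprimes ((hprop w w.2).2.2.pow_right k) ?_
    (orderOf_dvd_of_pow_eq_one h))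
  rw [Subgroup.orderOf_coe]

include ho hop in
theorem act_add (hW : ∀ (a : d.F) (j : ZMod d.p), ∀ w ∈ W, el o a j * w * (el o a j)⁻¹ ∈ W)
    (a b : d.F) (i j : ZMod d.p) (w : ↥W) :
    cjOn W (el o (a + b) (i + j)) (hW _ _) w = cjOn W (el o a i) (hW _ _) (cjOn W (el o b j) (hW _ _) w) :=
  Subtype.ext (by
    show el o (a + b) (i + j) * (w : G) * (el o (a + b) (i + j))⁻¹ =
      el o a i * (el o b j * (w : G) * (el o b j)⁻¹) * (el o a i)⁻¹
    rw [F.rootEl_add R ho hop]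
    group)

include ho hop in
/-- The norm of `o` is trivial on the inverted elements. -/
theorem norm_eq_one (hW : ∀ (a : d.F) (j : ZMod d.p), ∀ w ∈ W, el o a j * w * (el o a j)⁻¹ ∈ W)
    (hprop : ∀ w ∈ W, Odd (orderOf w) ∧ d.z * w * d.z⁻¹ = w⁻¹ ∧ (orderOf w).Coprime d.p) (ho1 : o ≠ 1)
    (w : ↥W) : ∏ j : ZMod d.p, cjOn W (el o 0 j) (hW _ _) w = 1 := by
  set y := ∏ j : ZMod d.p, cjOn W (el o 0 j) (hW _ _) w
  have hfix : cjOn W (el o 0 1) (hW _ _) y = y := by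
    rw [map_prod]
    refine Fintype.prod_equiv (Equiv.addLeft 1) _ _ fun j => ?_
    rw [← F.act_add R ho hop hW, Equiv.coe_addLeft]
    simp only [add_zero]
  rw [cjOn_eq_self] at hfix
  rw [F.rootEl_one R] at hfix
  have hyC := F.cent o ho ho1 (Subgroup.mem_centralizer_singleton_iff.2 hfix.symm.eq)
  obtain ⟨hodd, hinv, -⟩ := hprop y y.2
  rw [← Frame.Spec.z_central hyC, mul_inv_cancel_right] at hinv
  exact Subtype.ext (eq_one_of_sq_odd (mul_eq_one_iff_eq_inv.2 hinv) hodd)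

include ho hop in
/-- Averaging over a graph kills the elements fixed by another one. -/
theorem avg_eq_one (hW : ∀ (a : d.F) (j : ZMod d.p), ∀ w ∈ W, el o a j * w * (el o a j)⁻¹ ∈ W)
    (hprop : ∀ w ∈ W, Odd (orderOf w) ∧ d.z * w * d.z⁻¹ = w⁻¹ ∧ (orderOf w).Coprime d.p) (ho1 : o ≠ 1)
    (ψ δ : d.F →+ ZMod d.p) (hδ : δ ≠ 0) (w : ↥W)
    (hw : ∀ a, Commute (el o a (ψ a)) (w : G)) :
    ∏ a, cjOn W (el o a (ψ a + δ a)) (hW _ _) w = 1 := by
  obtain ⟨b, hb⟩ : ∃ b, δ b ≠ 0 := by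
    by_contra hcon
    push Not at hcon
    exact hδ (AddMonoidHom.ext hcon)
  set a₁ := (δ b)⁻¹.val • b
  have ha₁ : δ a₁ = 1 := by rw [map_nsmul, nsmul_eq_mul, ZMod.natCast_zmod_val, inv_mul_cancel₀ hb]
  have e : ∀ a, cjOn W (el o a (ψ a + δ a)) (hW _ _) w = cjOn W (el o 0 (δ a)) (hW _ _) w := fun a => by
    have h1 := F.act_add R ho hop hW 0 a (δ a) (ψ a) w
    rw [cjOn_eq_self.2 (hw a)] at h1
    simp only [zero_add, add_comm (δ a)] at h1
    exact h1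
  rw [Finset.prod_congr rfl fun a _ => e a]
  refine Safety.prod_eq_one_of_translate (ι := ZMod d.p)
    (fun u hu => pow_eq_one_elim hprop u 1 (by rwa [pow_one, ← ZMod.card d.p]))
    (fun j => Equiv.addRight (j.val • a₁)) _ fun a => ?_
  refine Eq.trans (Fintype.prod_equiv (Equiv.addLeft (δ a)) _ (fun j => cjOn W (el o 0 j) (hW _ _) w) fun j => ?_)
    (F.norm_eq_one R ho hop hW hprop ho1 w)
  simp only [Equiv.coe_addRight, Equiv.coe_addLeft, map_add, map_nsmul, ha₁]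
  simp only [nsmul_eq_mul, mul_one, ZMod.natCast_zmod_val]

end Avg

include ho hop in
/-- **An inverted element fixed by a graph.** -/
theorem exists_graph (ho1 : o ≠ 1) (hO : ∀ r : ℕ, r.Prime → r ∣ Nat.card d.O → r = d.p) (hpO : d.p ∣ Nat.card d.O)
    {a₀ : d.F} (ha₀ : a₀ ≠ 0) {e : G} (he : e ∈ invSet d {el o a₀ 1}) (he1 : e ≠ 1) :
    ∃ ψ : d.F →+ ZMod d.p, ψ a₀ = 1 ∧ ∃ e₀ ∈ invSet d (graph F R o ψ), e₀ ≠ 1 := by
  classical
  haveI : CharP d.F d.p := F.ctx.spec.charP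
  letI : Algebra (ZMod d.p) d.F := ZMod.algebra d.F d.p
  set S := invSet d {el o a₀ 1} with hS
  have hpair : ∀ a ∈ S, ∀ b ∈ S, a * b = b * a ∧ (orderOf a).Coprime d.p := fun a ha b hb =>
    F.unip_comm R ha₀ (F.rootLift_mem R a₀) (F.rootLift_pi R a₀) (pow_mem ho (1 : ZMod d.p).val) hO hpO
      (ha.2.2 _ rfl) ha.1 ha.2.1 (hb.2.2 _ rfl) hb.1 hb.2.1
  have hc : ∀ a ∈ S, ∀ b ∈ S, a * b = b * a := fun a ha b hb => (hpair a ha b hb).1
  set W := Subgroup.closure S with hWdef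
  haveI : IsMulCommutative W := Subgroup.isMulCommutative_closure hc
  have hprop : ∀ w ∈ W, Odd (orderOf w) ∧ d.z * w * d.z⁻¹ = w⁻¹ ∧ (orderOf w).Coprime d.p := fun w hw =>
    inv_closure hc (fun a ha => ⟨ha.1, ha.2.1, (hpair a ha a ha).2⟩) hw
  have hWh : ∀ w ∈ W, Commute (el o a₀ 1) w := fun w hw => by
    refine Subgroup.mem_centralizer_singleton_iff.1 ((Subgroup.closure_le _).2 (fun a ha => ?_) hw) |>.symm
    exact Subgroup.mem_centralizer_singleton_iff.2 (ha.2.2 _ rfl).eq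
  have hW : ∀ a j, ∀ w ∈ W, el o a j * w * (el o a j)⁻¹ ∈ W := fun a j w hw => by
    have hle : W.map (MulAut.conj (el o a j)).toMonoidHom ≤ W := by
      rw [hWdef, MonoidHom.map_closure, Subgroup.closure_le]
      rintro _ ⟨v, hv, rfl⟩
      refine Subgroup.subset_closure (invSet_conj (F.rootEl_mem R ho a j) (fun t ht => ?_) hv)
      rw [Set.mem_singleton_iff.1 ht]
      exact F.rootEl_comm R ho hop _ _ _ _
    exact hle ⟨w, hw, rfl⟩
  have heW : e ∈ W := Subgroup.subset_closure he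
  set ee : ↥W := ⟨e, heW⟩
  -- the functionals
  have hdual : ∀ {p : Submodule (ZMod d.p) d.F} {b : d.F}, b ∉ p →
      ∃ f : d.F →ₗ[ZMod d.p] ZMod d.p, f b = 1 ∧ ∀ c ∈ p, f c = 0 := fun {p b} hb => by
    obtain ⟨f, hf, hfp⟩ := Submodule.exists_dual_map_eq_bot_of_notMem hb inferInstance
    refine ⟨(f b)⁻¹ • f, by rw [LinearMap.smul_apply, smul_eq_mul, inv_mul_cancel₀ hf], fun c hc => ?_⟩
    have h0 : f c ∈ p.map f := Submodule.mem_map_of_mem hc
    rw [hfp, Submodule.mem_bot] at h0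
    rw [LinearMap.smul_apply, h0, smul_zero]
  obtain ⟨ψs, hψs, -⟩ := hdual (show a₀ ∉ (⊥ : Submodule (ZMod d.p) d.F) from fun h => ha₀ ((Submodule.mem_bot _).1 h))
  set line := Submodule.span (ZMod d.p) {a₀} with hline
  haveI : Finite (d.F →ₗ[ZMod d.p] ZMod d.p) := Finite.of_injective _ DFunLike.coe_injective
  set Φ : Submodule (ZMod d.p) (d.F →ₗ[ZMod d.p] ZMod d.p) := LinearMap.ker (LinearMap.applyₗ a₀) with hΦ
  haveI : Fintype ↥Φ := Fintype.ofFinite _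
  have hΦ0 : ∀ φ : ↥Φ, φ.1 a₀ = 0 := fun φ => φ.2
  let ψ : ↥Φ → (d.F →+ ZMod d.p) := fun φ => (ψs + φ.1).toAddMonoidHom
  let N : ↥Φ → ↥W := fun φ => ∏ a, cjOn W (el o a (ψ φ a)) (hW _ _) ee
  have hψ0 : ∀ φ, ψ φ a₀ = 1 := fun φ => by
    show ψs a₀ + φ.1 a₀ = 1
    rw [hψs, hΦ0, add_zero]
  have hfix : ∀ φ b, cjOn W (el o b (ψ φ b)) (hW _ _) (N φ) = N φ := fun φ b => by
    rw [map_prod]
    refine Fintype.prod_equiv (Equiv.addLeft b) _ _ fun a => ?_
    rw [← F.act_add R ho hop hW]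
    simp only [Equiv.coe_addLeft, map_add]
  have hon : ∀ φ, ∀ a ∈ line, cjOn W (el o a (ψ φ a)) (hW _ _) ee = ee := fun φ a ha => by
    obtain ⟨k, rfl⟩ := Submodule.mem_span_singleton.1 ha
    rw [cjOn_eq_self]
    have e1 : ψ φ (k • a₀) = k := by
      show ψs (k • a₀) + φ.1 (k • a₀) = k
      rw [map_smul, map_smul, hψs, hΦ0, smul_zero, add_zero, smul_eq_mul, mul_one]
    have e2 : el o (k • a₀) k = el o a₀ 1 ^ k.val := by
      rw [← F.rootEl_nsmul R ho hop, ZMod.natCast_zmod_val, ← Nat.cast_smul_eq_nsmul (ZMod d.p),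
        ZMod.natCast_zmod_val]
    rw [e1, e2]
    exact (hWh e heW).pow_left _
  have hoff : ∀ a ∉ line, ∏ φ, cjOn W (el o a (ψ φ a)) (hW _ _) ee = 1 := fun a ha => by
    obtain ⟨f, hf, hf0⟩ := hdual ha
    have hfΦ : f ∈ Φ := hf0 a₀ (Submodule.mem_span_singleton_self a₀)
    refine Safety.prod_eq_one_of_translate (ι := ZMod d.p)
      (fun u hu => pow_eq_one_elim hprop u 1 (by rwa [pow_one, ← ZMod.card d.p]))
      (fun i => Equiv.addRight (i • (⟨f, hfΦ⟩ : ↥Φ))) _ fun φ => ?_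
    rw [show (∏ j : ZMod d.p, cjOn W (el o a (ψ (Equiv.addRight (j • (⟨f, hfΦ⟩ : ↥Φ)) φ) a)) (hW _ _) ee) =
      cjOn W (el o a (ψ φ a)) (hW _ _) (∏ j : ZMod d.p, cjOn W (el o 0 j) (hW _ _) ee) from ?_,
      F.norm_eq_one R ho hop hW hprop ho1, map_one]
    rw [map_prod]
    refine Finset.prod_congr rfl fun j _ => ?_
    rw [← F.act_add R ho hop hW]
    have e3 : ψ (φ + j • (⟨f, hfΦ⟩ : ↥Φ)) a = ψ φ a + j := by
      show ψs a + (φ.1 + j • f) a = ψs a + φ.1 a + j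
      rw [LinearMap.add_apply, LinearMap.smul_apply, hf, smul_eq_mul, mul_one, add_assoc]
    simp only [Equiv.coe_addRight, e3, add_zero]
  have htot : ∏ φ, N φ = ee ^ (d.p ^ Module.finrank (ZMod d.p) ↥Φ * d.p ^ Module.finrank (ZMod d.p) ↥line) := by
    rw [Finset.prod_comm, Finset.prod_congr rfl fun a _ => (show ∏ φ, cjOn W (el o a (ψ φ a)) (hW _ _) ee =
      if a ∈ line then ee ^ Fintype.card ↥Φ else 1 from ?_)]
    · rw [Finset.prod_ite, Finset.prod_const_one, mul_one, Finset.prod_const, ← pow_mul, ← Fintype.card_subtype,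
        Module.card_eq_pow_finrank (K := ZMod d.p) (V := ↥Φ), ZMod.card,
        show Fintype.card {a // a ∈ line} = Fintype.card ↥line from Fintype.card_congr (Equiv.refl _),
        Module.card_eq_pow_finrank (K := ZMod d.p) (V := ↥line), ZMod.card]
    · split_ifs with ha
      · rw [Finset.prod_congr rfl fun φ _ => hon φ a ha, Finset.prod_const, Finset.card_univ]
      · exact hoff a ha
  obtain ⟨φ, hφ⟩ : ∃ φ, N φ ≠ 1 := by
    by_contra hcon
    push Not at hcon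
    rw [Finset.prod_eq_one fun φ _ => hcon φ, ← pow_add] at htot
    exact he1 (congrArg Subtype.val (pow_eq_one_elim hprop ee _ htot.symm))
  refine ⟨ψ φ, hψ0 φ, N φ, ⟨(hprop _ (N φ).2).1, (hprop _ (N φ).2).2.1, ?_⟩, fun h => hφ (Subtype.ext h)⟩
  rintro _ ⟨b, rfl⟩
  exact (cjOn_eq_self.1 (hfix φ b)).symm

include ho hop in
/-- The inverted elements fixed by a graph. -/
theorem card_invSet (ho1 : o ≠ 1) {ψ : d.F →+ ZMod d.p} {e₀ : G} (he₀ : e₀ ∈ invSet d (graph F R o ψ))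
    (he1 : e₀ ≠ 1) : 2 * d.p + 1 ≤ Nat.card ↥(invSet d (graph F R o ψ)) := by
  classical
  have hpp : d.p.Prime := Fact.out
  have hord : orderOf o = d.p := orderOf_eq_prime hop ho1
  have hoC : ∀ i : ℕ, o ^ i * e₀ * (o ^ i)⁻¹ ∈ invSet d (graph F R o ψ) := fun i => by
    refine invSet_conj (d.O_le (pow_mem ho _)) ?_ he₀
    rintro _ ⟨a, rfl⟩
    exact ((show Commute o (rootLift F.ctx.spec F.ctx.hq R a) from
      F.ctx.od o ho _ (F.rootLift_mem R a)).mul_right ((Commute.refl o).pow_right _)).pow_left i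
  have hinv : ∀ e ∈ invSet d (graph F R o ψ), e⁻¹ ∈ invSet d (graph F R o ψ) := fun e he =>
    ⟨by rw [orderOf_inv]; exact he.1, by rw [← conj_inv, he.2.1], fun t ht => (he.2.2 t ht).inv_left⟩
  have hfree : ∀ k : ℕ, Commute (o ^ k) e₀ → d.p ∣ k := fun k hk => by
    by_contra hnd
    have hk1 : o ^ k ≠ 1 := fun e => hnd (hord ▸ orderOf_dvd_of_pow_eq_one e)
    have hC := F.cent _ (pow_mem ho k) hk1 (Subgroup.mem_centralizer_singleton_iff.2 hk.eq.symm)
    have h2 := he₀.2.1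
    rw [← Frame.Spec.z_central hC, mul_inv_cancel_right] at h2
    exact he1 (eq_one_of_sq_odd (mul_eq_one_iff_eq_inv.2 h2) he₀.1)
  let f : Option (Fin d.p × Bool) → ↥(invSet d (graph F R o ψ)) := fun s => match s with
    | none => ⟨1, by simp [orderOf_one], by simp, fun t _ => Commute.one_left t⟩
    | some (i, false) => ⟨_, hoC i⟩
    | some (i, true) => ⟨_, hinv _ (hoC i)⟩
  have key : ∀ i j : Fin d.p, (i : ℕ) ≤ j → ∀ v : G, o ^ (i : ℕ) * e₀ * (o ^ (i : ℕ))⁻¹ =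
      o ^ (j : ℕ) * v * (o ^ (j : ℕ))⁻¹ → o ^ ((j : ℕ) - i) * v * (o ^ ((j : ℕ) - i))⁻¹ = e₀ := fun i j hij v e => by
    obtain ⟨k, hk⟩ := Nat.exists_eq_add_of_le hij
    rw [hk, pow_add] at e
    rw [hk, Nat.add_sub_cancel_left]
    refine (MulAut.conj (o ^ (i : ℕ))).injective ?_
    show o ^ (i : ℕ) * (o ^ k * v * (o ^ k)⁻¹) * (o ^ (i : ℕ))⁻¹ = o ^ (i : ℕ) * e₀ * (o ^ (i : ℕ))⁻¹
    rw [e]
    group
  have same : ∀ i j : Fin d.p, o ^ (i : ℕ) * e₀ * (o ^ (i : ℕ))⁻¹ = o ^ (j : ℕ) * e₀ * (o ^ (j : ℕ))⁻¹ → i = j := by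
    have h1 : ∀ i j : Fin d.p, (i : ℕ) ≤ j →
        o ^ (i : ℕ) * e₀ * (o ^ (i : ℕ))⁻¹ = o ^ (j : ℕ) * e₀ * (o ^ (j : ℕ))⁻¹ → i = j := fun i j hij e => by
      have hd := hfree _ (mul_inv_eq_iff_eq_mul.1 (key i j hij e₀ e))
      have := Nat.eq_zero_of_dvd_of_lt hd (by omega)
      exact Fin.ext (by omega)
    intro i j e
    rcases le_total (i : ℕ) j with h | h
    · exact h1 i j h e
    · exact (h1 j i h e.symm).symm
  have opp : ∀ i j : Fin d.p, o ^ (i : ℕ) * e₀ * (o ^ (i : ℕ))⁻¹ ≠ (o ^ (j : ℕ) * e₀ * (o ^ (j : ℕ))⁻¹)⁻¹ := by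
    have h1 : ∀ i j : Fin d.p, (i : ℕ) ≤ j →
        o ^ (i : ℕ) * e₀ * (o ^ (i : ℕ))⁻¹ ≠ (o ^ (j : ℕ) * e₀ * (o ^ (j : ℕ))⁻¹)⁻¹ := fun i j hij e => by
      have h2 := key i j hij e₀⁻¹ (e.trans (by group))
      set k := (j : ℕ) - i
      have h3 : o ^ (k + k) * e₀ * (o ^ (k + k))⁻¹ = e₀ := by
        have h4 : o ^ k * e₀ * (o ^ k)⁻¹ = e₀⁻¹ := by rw [← inv_inj, conj_inv, inv_inv]; exact h2
        calc o ^ (k + k) * e₀ * (o ^ (k + k))⁻¹ = o ^ k * (o ^ k * e₀ * (o ^ k)⁻¹) * (o ^ k)⁻¹ := by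
              rw [pow_add]; group
          _ = e₀ := by rw [h4, h2]
      have hd := hfree _ (mul_inv_eq_iff_eq_mul.1 h3)
      rw [← two_mul] at hd
      have hk0 : k = 0 := Nat.eq_zero_of_dvd_of_lt (((hpp.coprime_iff_not_dvd).2 fun h => F.ctx.spec.podd
        ((Nat.prime_dvd_prime_iff_eq hpp Nat.prime_two).1 h)).dvd_of_dvd_mul_left hd) (by omega)
      rw [hk0, pow_zero, one_mul, inv_one, mul_one] at h2
      exact he1 (eq_one_of_sq_odd (mul_eq_one_iff_eq_inv.2 h2.symm) he₀.1)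
    intro i j
    rcases le_total (i : ℕ) j with h | h
    · exact h1 i j h
    · exact fun e => h1 j i h (by rw [e, inv_inv])
  have one : ∀ i : Fin d.p, o ^ (i : ℕ) * e₀ * (o ^ (i : ℕ))⁻¹ ≠ 1 := fun i e => he1 (conj_eq_one_iff.1 e)
  have hinj : Function.Injective f := by
    rintro (_ | ⟨i, _ | _⟩) (_ | ⟨j, _ | _⟩) h <;> have h' := congrArg Subtype.val h <;>
      simp only [f] at h'
    · rfl
    · exact absurd h'.symm (one j)
    · exact absurd (inv_eq_one.1 h'.symm) (one j)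
    · exact absurd h' (one i)
    · rw [same i j h']
    · exact absurd h' (opp i j)
    · exact absurd (inv_eq_one.1 h') (one i)
    · exact absurd h'.symm (opp j i)
    · rw [same i j (inv_injective h')]
  haveI : Fintype ↥(invSet d (graph F R o ψ)) := Fintype.ofFinite _
  have := Fintype.card_le_of_injective f hinj
  rw [Nat.card_eq_fintype_card]
  simp only [Fintype.card_option, Fintype.card_prod, Fintype.card_fin, Fintype.card_bool] at this
  omega

omit [Fact d.p.Prime] in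
/-- The graphs under the square multipliers. -/
theorem conj_rootEl {o : G} (ho : o ∈ d.O) {s : d.F} (hs : s ≠ 0) {t : G} (ht : t ∈ d.D)
    (hπ : R.π ⟨t, F.ctx.spec.D_le_L F.ctx.hq ht⟩ = dSL s hs) (a : d.F) (j : ZMod d.p) :
    t * el o a j * t⁻¹ = el o (s ^ 2 * a) j := by
  have h1 : t * J a * t⁻¹ = J (s ^ 2 * a) := by
    refine F.rootLift_eq R (d.D_conj (d.D_le ht) (F.rootLift_mem R a)) ?_
    rw [show (⟨t * J a * t⁻¹, F.ctx.spec.D_le_L F.ctx.hq (d.D_conj (d.D_le ht) (F.rootLift_mem R a))⟩ : ↥d.L) =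
      ⟨t, F.ctx.spec.D_le_L F.ctx.hq ht⟩ * ⟨J a, F.ctx.spec.D_le_L F.ctx.hq (F.rootLift_mem R a)⟩ *
        ⟨t, F.ctx.spec.D_le_L F.ctx.hq ht⟩⁻¹ from rfl, map_mul, map_mul, map_inv, hπ, F.rootLift_pi,
      mul_inv_eq_iff_eq_mul]
    refine Subtype.ext ?_
    simp only [Matrix.SpecialLinearGroup.coe_mul, coe_uSL, coe_dSL]
    ext i k
    fin_cases i <;> fin_cases k <;> simp [Matrix.mul_apply, Fin.sum_univ_two] <;> field_simp
  simp only [rootEl]
  rw [← conj_mul, h1]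
  congr 1
  rw [← (show Commute (o ^ j.val) t from F.ctx.od _ (pow_mem ho _) t ht).eq, mul_inv_cancel_right]

include ho hop in
/-- Safety at the prime of the field, in adapted coordinates. -/
theorem safe_root (hO : ∀ r : ℕ, r.Prime → r ∣ Nat.card d.O → r = d.p) {x : G} (hx : x ∈ d.D) {a₀ : d.F}
    (ha₀ : a₀ ≠ 0) (hxπ : R.π ⟨x, F.ctx.spec.D_le_L F.ctx.hq hx⟩ = uSL a₀) (ho1 : o ≠ 1) :
    Subgroup.centralizer ({x * o} : Set G) ≤ d.C := by
  classical
  have hd := F.ctx.spec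
  have hq := F.ctx.hq
  haveI := hd.charP
  haveI : Fintype G := Fintype.ofFinite G
  have hpO : d.p ∣ Nat.card d.O := orderOf_eq_prime hop ho1 ▸ Subgroup.orderOf_dvd_natCard _ ho
  obtain ⟨hn, hq27, hsize⟩ := F.size hpO
  have hh0 : el o a₀ 1 = x * o := by rw [rootEl, ← F.rootLift_eq R hx hxπ, ZMod.val_one, pow_one]
  set H := Subgroup.centralizer ({x * o} : Set G)
  have hzH : d.z ∈ H := Subgroup.mem_centralizer_singleton_iff.2
    (Frame.Spec.z_central (mul_mem (d.D_le hx) (d.O_le ho))).symm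
  have hiso : ∀ v ∈ H, v ∈ d.C → orderOf v = 2 → v = d.z := fun v hv hvC hv2 =>
    F.unip_iso R ha₀ hx hxπ ho hv hvC hv2
  intro c hc
  obtain ⟨b, hb, -, hbc⟩ := F.exists_fixed hzH hiso hc
  suffices hbC : b ∈ d.C by
    have h1 := mul_mem (inv_mem hbC) hbc
    rwa [inv_mul_cancel_left] at h1
  set e := d.z * b * d.z⁻¹ * b⁻¹ with he
  have heX : e ∈ coreIn H := mul_mem (coreIn_conj hzH hb) (inv_mem hb)
  by_contra hbC
  have he1 : e ≠ 1 := fun h => hbC (Subgroup.mem_centralizer_singleton_iff.2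
    (mul_inv_eq_iff_eq_mul.1 (mul_inv_eq_one.1 h)).symm)
  have heS : e ∈ invSet d {el o a₀ 1} := by
    refine ⟨(coreIn_odd H).of_dvd_nat (Subgroup.orderOf_dvd_natCard _ heX), ?_, fun t ht => ?_⟩
    · have hz := inv_eq_of_mul_eq_one_right F.zz
      calc d.z * e * d.z⁻¹ = (d.z * d.z) * b * d.z⁻¹ * b⁻¹ * d.z⁻¹ := by rw [he]; group
        _ = b * d.z * b⁻¹ * d.z⁻¹ := by rw [F.zz, one_mul]; nth_rewrite 1 [hz]; rfl
        _ = e⁻¹ := by rw [he]; group
    · rw [Set.mem_singleton_iff.1 ht, hh0]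
      exact Subgroup.mem_centralizer_singleton_iff.1 (coreIn_le H heX)
  obtain ⟨ψ, hψ, e₀, he₀, he₀1⟩ := F.exists_graph R ho hop ho1 hO hpO ha₀ heS he1
  -- the square multipliers
  set Sq := (powMonoidHom 2 : d.Fˣ →* d.Fˣ).range with hSq
  let ψc : ↥Sq → (d.F →+ ZMod d.p) := fun c => ψ.comp (AddMonoidHom.mulLeft ((c.1⁻¹ : d.Fˣ) : d.F))
  let S : ↥Sq → Set G := fun c => invSet d (graph F R o (ψc c))
  have hex : ∀ c, ∃ e' ∈ S c, e' ≠ 1 := fun c => by
    obtain ⟨s, hs⟩ := c.2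
    obtain ⟨t, ht, htπ⟩ := R.surj_D hd hq (dSL (s : d.F) s.ne_zero)
    refine ⟨t * e₀ * t⁻¹, ⟨by rw [orderOf_cj]; exact he₀.1, ?_, ?_⟩, fun h => he₀1 (conj_eq_one_iff.1 h)⟩
    · calc d.z * (t * e₀ * t⁻¹) * d.z⁻¹ = (d.z * t) * e₀ * (d.z * t)⁻¹ := by group
        _ = (t * d.z) * e₀ * (t * d.z)⁻¹ := by rw [Frame.Spec.z_central (d.D_le ht)]
        _ = t * (d.z * e₀ * d.z⁻¹) * t⁻¹ := by group
        _ = (t * e₀ * t⁻¹)⁻¹ := by rw [he₀.2.1]; group
    · rintro _ ⟨a, rfl⟩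
      have h1 := F.conj_rootEl R ho s.ne_zero ht htπ (((c.1⁻¹ : d.Fˣ) : d.F) * a) (ψ (((c.1⁻¹ : d.Fˣ) : d.F) * a))
      rw [← Units.val_pow_eq_pow_val, show s ^ 2 = c.1 from hs, ← mul_assoc, Units.mul_inv, one_mul] at h1
      show Commute _ (el o a (ψ (((c.1⁻¹ : d.Fˣ) : d.F) * a)))
      rw [← h1]
      exact (Commute.conj_iff t).2 (he₀.2.2 _ ⟨_, rfl⟩)
  have hqcard : Fintype.card d.F = d.p ^ d.n := hd.card
  have hpq : d.p < Fintype.card d.F := by
    rw [hqcard]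
    calc d.p = d.p ^ 1 := (pow_one _).symm
      _ < _ := Nat.pow_lt_pow_right hd.prime.one_lt (by omega)
  have hpair : ∀ c c', ∀ u ∈ S c, ∀ v ∈ S c', u * v = v * u ∧ (orderOf u).Coprime d.p := fun c c' u hu v hv => by
    obtain ⟨a, a', hne, haa⟩ := Fintype.exists_ne_map_eq_of_card_lt (fun a => ψc c a - ψc c' a)
      (by rwa [ZMod.card])
    have h1 : ψc c (a - a') = ψc c' (a - a') := by
      rw [map_sub, map_sub]
      linear_combination haa
    exact F.unip_comm R (sub_ne_zero.2 hne) (F.rootLift_mem R _) (F.rootLift_pi R _)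
      (pow_mem ho (ψc c (a - a')).val) hO hpO (hu.2.2 _ ⟨a - a', rfl⟩) hu.1 hu.2.1
      (h1 ▸ hv.2.2 _ ⟨a - a', rfl⟩) hv.1 hv.2.1
  set U : Set G := ⋃ c, S c with hU
  have hc' : ∀ u ∈ U, ∀ v ∈ U, u * v = v * u := fun u hu v hv => by
    obtain ⟨i, hi⟩ := Set.mem_iUnion.1 hu
    obtain ⟨j, hj⟩ := Set.mem_iUnion.1 hv
    exact (hpair i j u hi v hj).1
  set W := Subgroup.closure U with hWdef
  haveI : IsMulCommutative W := Subgroup.isMulCommutative_closure hc'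
  have hprop : ∀ w ∈ W, Odd (orderOf w) ∧ d.z * w * d.z⁻¹ = w⁻¹ ∧ (orderOf w).Coprime d.p := fun w hw =>
    inv_closure hc' (fun u hu => by
      obtain ⟨i, hi⟩ := Set.mem_iUnion.1 hu
      exact ⟨hi.1, hi.2.1, (hpair i i u hi u hi).2⟩) hw
  have hW : ∀ a j, ∀ w ∈ W, el o a j * w * (el o a j)⁻¹ ∈ W := fun a j w hw => by
    have hle : W.map (MulAut.conj (el o a j)).toMonoidHom ≤ W := by
      rw [hWdef, MonoidHom.map_closure, Subgroup.closure_le]
      rintro _ ⟨v, hv, rfl⟩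
      obtain ⟨i, hi⟩ := Set.mem_iUnion.1 hv
      refine Subgroup.subset_closure (Set.mem_iUnion.2 ⟨i, invSet_conj (F.rootEl_mem R ho a j) ?_ hi⟩)
      rintro _ ⟨b, rfl⟩
      exact F.rootEl_comm R ho hop _ _ _ _
    exact hle ⟨w, hw, rfl⟩
  haveI : ∀ c, Fintype ↥(S c) := fun c => Fintype.ofFinite _
  let ι : ∀ c, ↥(S c) → ↥W := fun c u => ⟨u.1, Subgroup.subset_closure (Set.mem_iUnion.2 ⟨c, u.2⟩)⟩
  let f : (∀ c, ↥(S c)) → ↥W := fun w => ∏ c, ι c (w c)
  let N : ↥Sq → ↥W →* ↥W := fun c => ∏ a, cjOn W (el o a (ψc c a)) (hW _ _)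
  have hN : ∀ w c, N c (f w) = ι c (w c) ^ Fintype.card d.F := fun w c => by
    rw [map_prod, Finset.prod_eq_single c (fun c' _ hne => ?_) (fun h => absurd (Finset.mem_univ c) h)]
    · rw [MonoidHom.finsetProd_apply, Finset.prod_congr rfl fun a _ => (cjOn_eq_self.2 ?_), Finset.prod_const,
        Finset.card_univ]
      exact ((w c).2.2.2 _ ⟨a, rfl⟩).symm
    · rw [MonoidHom.finsetProd_apply]
      have hδ : ψc c - ψc c' ≠ 0 := fun h0 => by
        have hne' : ((c.1⁻¹ : d.Fˣ) : d.F) - ((c'.1⁻¹ : d.Fˣ) : d.F) ≠ 0 :=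
          sub_ne_zero.2 fun e => hne (Subtype.ext (inv_injective (Units.ext e)).symm)
        have h1 := DFunLike.congr_fun h0 (a₀ / (((c.1⁻¹ : d.Fˣ) : d.F) - ((c'.1⁻¹ : d.Fˣ) : d.F)))
        simp only [ψc, AddMonoidHom.sub_apply, AddMonoidHom.comp_apply, AddMonoidHom.coe_mulLeft,
          AddMonoidHom.zero_apply] at h1
        rw [← map_sub, ← sub_mul, mul_div_cancel₀ _ hne', hψ] at h1
        exact one_ne_zero h1
      refine Eq.trans (Finset.prod_congr rfl fun a _ => ?_) (F.avg_eq_one R ho hop hW hprop ho1 (ψc c')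
        (ψc c - ψc c') hδ (ι c' (w c')) fun a => ((w c').2.2.2 _ ⟨a, rfl⟩).symm)
      simp only [AddMonoidHom.sub_apply, add_sub_cancel]
  have hinj : Function.Injective f := fun w w' h => by
    funext c
    have h1 := congrArg (N c) h
    rw [hN, hN, ← mul_inv_eq_one, ← inv_pow, ← mul_pow, hqcard] at h1
    exact Subtype.ext (congrArg Subtype.val (mul_inv_eq_one.1 (pow_eq_one_elim hprop _ _ h1)) :)
  have hlow : (2 * d.p + 1) ^ Nat.card ↥Sq ≤ Nat.card ↥W := by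
    refine le_trans ?_ (Nat.card_le_card_of_injective f hinj)
    rw [Nat.card_pi, Nat.card_eq_fintype_card, ← Finset.card_univ]
    refine Finset.pow_card_le_prod _ _ _ fun c _ => ?_
    obtain ⟨e', he', he'1⟩ := hex c
    exact F.card_invSet R ho hop ho1 he' he'1
  have hsq : Nat.card ↥Sq = (d.p ^ d.n - 1) / 2 := by
    rw [hSq, IsCyclic.card_powMonoidHom_range, Nat.card_units, Nat.card_eq_fintype_card, hqcard]
    obtain ⟨j, hj⟩ := (hd.prime.odd_of_ne_two hd.podd).pow (n := d.n)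
    rw [Nat.gcd_eq_right (by omega)]
  -- the order
  have hcW : (Nat.card ↥W).Coprime d.p := by
    refine (hd.prime.coprime_iff_not_dvd.2 fun hdv => ?_).symm
    obtain ⟨w, hw⟩ := exists_prime_orderOf_dvd_card' (G := ↥W) d.p hdv
    have h1 := (hprop w w.2).2.2
    rw [Subgroup.orderOf_coe, hw, Nat.coprime_self] at h1
    exact hd.prime.ne_one h1
  have hCL : d.L.relIndex d.C ∣ 2 := by
    refine dvd_of_eq (Subgroup.index_eq_two_iff.2 ⟨⟨inv2 d g, F.ctx.inv2_mem⟩, fun b => ?_⟩)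
    rw [Subgroup.mem_subgroupOf, Subgroup.mem_subgroupOf]
    have huL : inv2 d g ∉ d.L := hd.invol_not_mem F.ctx.inv2_order F.ctx.inv2_ne
    rcases F.split b b.2 with h | h
    · exact Or.inr ⟨h, fun h' => huL ((Subgroup.mul_mem_cancel_left _ h).1 h')⟩
    · have h' : (b : G) * inv2 d g ∈ d.L := by
        have := d.L_conj (inv_mem F.ctx.inv2_mem) h
        rwa [inv_mul_cancel_left, inv_inv] at this
      exact Or.inl ⟨h', fun h'' => huL ((Subgroup.mul_mem_cancel_left _ h'').1 h')⟩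
  obtain ⟨k, hk⟩ := F.card_O_pow hO
  have hG : Nat.card ↥W ∣ (d.p ^ d.n * d.p ^ k) * (2 * ((d.p ^ d.n) ^ 2 - 1) * d.C.index) := by
    have hLC : Nat.card d.L * d.L.relIndex d.C = Nat.card d.C := by
      rw [← Subgroup.relIndex_bot_left, ← Subgroup.relIndex_bot_left,
        Subgroup.relIndex_mul_relIndex _ _ _ bot_le d.L_le]
    refine (W.card_subgroup_dvd_card).trans ?_
    rw [← d.C.card_mul_index, ← hLC, card_L_core R hd, hk, show d.q = d.p ^ d.n from rfl]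
    obtain ⟨r, hr⟩ := hCL
    exact ⟨r, by rw [hr]; ring⟩
  have hdiv : Nat.card ↥W ∣ 2 * ((d.p ^ d.n) ^ 2 - 1) * d.C.index :=
    ((hcW.pow_right _).mul_right (hcW.pow_right _)).dvd_of_dvd_mul_left hG
  have hpos : 0 < 2 * ((d.p ^ d.n) ^ 2 - 1) * d.C.index := by
    have : 2 ^ 2 ≤ (d.p ^ d.n) ^ 2 := Nat.pow_le_pow_left (le_trans (by norm_num) hq27) 2
    have h2 : 0 < (d.p ^ d.n) ^ 2 - 1 := by omega
    have := Nat.pos_of_ne_zero (Subgroup.index_ne_zero_of_finite (H := d.C))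
    positivity
  have hup := (hlow.trans (Nat.le_of_dvd hpos hdiv))
  rw [hsq] at hup
  have hgrow := Safety.growth hd.prime hd.podd hn hq27
  have h16 : 16 * (2 * ((d.p ^ d.n) ^ 2 - 1) * d.C.index) ≤ 2 * ((d.p ^ d.n) ^ 2 - 1) * (d.p ^ d.n + 1) ^ 6 := by
    rw [show 16 * (2 * ((d.p ^ d.n) ^ 2 - 1) * d.C.index) = 2 * ((d.p ^ d.n) ^ 2 - 1) * (16 * d.C.index) by ring]
    exact Nat.mul_le_mul_left _ hsize
  have := Nat.mul_le_mul_left 16 hup
  omega

end Flat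

/-- **Safety at the prime of the field.** -/
theorem Flat.safe_unipotent {g : G} (F : Flat d g) (hO : ∀ r : ℕ, r.Prime → r ∣ Nat.card d.O → r = d.p) {x o : G}
    (hx : x ∈ d.D) (hx1 : x ≠ 1) (ho : o ∈ d.O) (ho1 : o ≠ 1) (hxp : x ^ d.p = 1) (hop : o ^ d.p = 1) :
    Subgroup.centralizer ({x * o} : Set G) ≤ d.C := by
  have hd := F.ctx.spec
  have hq := F.ctx.hq
  haveI : Fact d.p.Prime := ⟨hd.prime⟩
  haveI := hd.charP
  obtain ⟨R₀⟩ := hd.exists_rep
  obtain ⟨P, a₀, ha₀, hPa⟩ := SL2.exists_up_conj d.p (C := R₀.π ⟨x, hd.D_le_L hq hx⟩) (k := 1)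
    (by rw [pow_one, ← map_pow, show (⟨x, hd.D_le_L hq hx⟩ : ↥d.L) ^ d.p = 1 from Subtype.ext hxp, map_one])
    (fun h => hx1 (F.disjoint hx ((R₀.ker _).1 h)))
  exact F.safe_root (R₀.conj P) ho hop hO hx ha₀ hPa ho1

end CfsgLib.RankTwoModel.L4
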