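import Cfsg.Agent.Lib.RankTwoModel.L4.Safety.Structure
import Mathlib.GroupTheory.FixedPointFree

/-!
The centraliser of `x o` with `x` a root element of `D` and `o` in `O`, when `O` is a `p`-group.

* `Safety.prod_eq_one_of_translate`: a product invariant under `p` translations with trivial orbit products;
* `Flat.unip_iso`: `z` is the only involution of `C` centralising it;
* `Flat.unip_comm`: its elements of odd order inverted by `z` commute and have order prime to `p` (Burnside).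

Blueprint: `blueprint/RankTwo_L45.md` (v4, safety, `r = p`).
-/

set_option autoImplicit false
set_option linter.unusedSectionVars false
set_option linter.style.haveILetI false

namespace CfsgLib.RankTwoModel

open Cfsg CfsgLib.BG CfsgLib.PSL2

universe u

namespace Safety

/-- A product with trivial partial products along translations. -/
theorem prod_eq_one_of_translate {ι A W : Type*} [CommGroup W] [Fintype A] [Fintype ι]
    (hW : ∀ w : W, w ^ Fintype.card ι = 1 → w = 1) (σ : ι → A ≃ A) (f : A → W) (h : ∀ a, ∏ j, f (σ j a) = 1) :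
    ∏ a, f a = 1 := by
  refine hW _ ?_
  calc (∏ a, f a) ^ Fintype.card ι = ∏ j : ι, ∏ a, f (σ j a) := by
        rw [Finset.prod_congr rfl fun j _ => Equiv.prod_comp (σ j) f, Finset.prod_const, Finset.card_univ]
    _ = ∏ a, ∏ j, f (σ j a) := Finset.prod_comm
    _ = 1 := Finset.prod_eq_one fun a _ => h a

end Safety

namespace L4.Flat

variable {G : Type u} [Group G] [Finite G] {d : Frame G} {g : G} (F : Flat d g) (R : Rep d)
include F

/-- The core is a group of `p`-power order. -/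
theorem card_O_pow (hO : ∀ r : ℕ, r.Prime → r ∣ Nat.card d.O → r = d.p) : ∃ k, Nat.card d.O = d.p ^ k :=
  ⟨_, Nat.eq_prime_pow_of_unique_prime_dvd Nat.card_pos.ne' fun {r} hr hrd => hO r hr hrd⟩

section

variable {a : d.F} (ha : a ≠ 0) {x o : G} (hx : x ∈ d.D)
  (hπ : R.π ⟨x, F.ctx.spec.D_le_L F.ctx.hq hx⟩ = uSL a) (ho : o ∈ d.O)
include ha hx hπ ho

/-- **`z` is isolated in the centraliser.** -/
theorem unip_iso {v : G} (hvH : v ∈ Subgroup.centralizer ({x * o} : Set G)) (hv : v ∈ d.C) (hv2 : orderOf v = 2) :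
    v = d.z := by
  by_contra hvz
  have hd := F.ctx.spec
  have hq := F.ctx.hq
  obtain ⟨g₀, htr, -, hg₀⟩ := R.invol hd hq F.ctx.hyp hv hv2 hvz
  have hcm := Subgroup.mem_centralizer_singleton_iff.1 hvH
  obtain ⟨hvx, -⟩ := F.eq_of_decomp (d.D_conj hv hx) hx (Frame.Spec.O_conj hv ho) ho
    (show (v * x * v⁻¹) * (v * o * v⁻¹) = x * o by
      rw [show v * x * v⁻¹ * (v * o * v⁻¹) = v * (x * o) * v⁻¹ by group, hcm, mul_inv_cancel_right])
  have hσ : R.σ ⟨v, hv⟩ (uSL a) = uSL a := by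
    rw [← hπ, R.compat]
    exact congrArg R.π (Subtype.ext hvx)
  have hk := SL2.comm_of_conjSL (g := g₀) (A := uSL a) (Subtype.ext (by
    rw [PSL2.coe_conjSL, ← hg₀, hσ]))
  have e00 := congrFun (congrFun hk 0) 0
  have e01 := congrFun (congrFun hk 0) 1
  simp [coe_uSL, Matrix.mul_apply, Fin.sum_univ_two] at e00 e01
  have h10 : g₀.1 1 0 = 0 := e00.resolve_left ha
  have h11 : g₀.1 1 1 = g₀.1 0 0 := mul_left_cancel₀ ha (by linear_combination -e01)
  have h2 := SL2Orders.two_ne_zero_of_odd hd.odd_card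
  rw [Matrix.trace_fin_two, h11] at htr
  have h00 : g₀.1 0 0 = 0 := (mul_eq_zero.1 (show (2 : d.F) * g₀.1 0 0 = 0 by linear_combination htr)).resolve_left h2
  exact GW.Model.det_ne g₀ (by rw [Matrix.det_fin_two, h00, h10, zero_mul, mul_zero, sub_zero])

/-- An odd element of `C` centralising it is a `p`-element. -/
theorem unip_fixed (hO : ∀ r : ℕ, r.Prime → r ∣ Nat.card d.O → r = d.p) {c : G} (hc : c ∈ d.C)
    (hodd : Odd (orderOf c)) (hcm : Commute c (x * o)) : ∃ k, c ^ d.p ^ k = 1 := by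
  have hd := F.ctx.spec
  have hq := F.ctx.hq
  haveI : Fact d.p.Prime := ⟨hd.prime⟩
  haveI := hd.charP
  obtain ⟨y, hy, o', ho', e⟩ := F.decomp (F.odd_mem hc hodd)
  obtain ⟨hcx, -⟩ := F.eq_of_decomp (d.D_conj (d.D_le hy) hx) hx (Frame.Spec.O_conj (d.D_le hy) ho) ho (by
    rw [show y * x * y⁻¹ * (y * o * y⁻¹) = y * (x * o) * y⁻¹ by group]
    have h1 : Commute o' (x * o) := Commute.mul_right (F.ctx.od o' ho' x hx) (F.O_comm ho' ho)
    have h2 : Commute y (x * o) := by
      rw [show y = c * o'⁻¹ by rw [e, mul_inv_cancel_right]]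
      exact hcm.mul_left h1.inv_left
    rw [h2.eq, mul_inv_cancel_right])
  set A := R.π ⟨y, hd.D_le_L hq hy⟩ with hA
  have hAu : A.1 * (uSL a).1 = (uSL a).1 * A.1 := by
    refine congrArg Subtype.val (show A * uSL a = uSL a * A from ?_)
    rw [hA, ← hπ, ← map_mul, ← map_mul]
    exact congrArg R.π (Subtype.ext (mul_inv_eq_iff_eq_mul.1 hcx))
  have e00 := congrFun (congrFun hAu 0) 0
  have e01 := congrFun (congrFun hAu 0) 1
  simp [coe_uSL, Matrix.mul_apply, Fin.sum_univ_two] at e00 e01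
  have h10 : A.1 1 0 = 0 := e00.resolve_left ha
  have h11 : A.1 1 1 = A.1 0 0 := mul_left_cancel₀ ha (by linear_combination -e01)
  have hyo : Odd (orderOf y) := by
    obtain ⟨m, hm⟩ := hodd
    have h1 : (y * o') ^ orderOf c = 1 := e ▸ pow_orderOf_eq_one c
    rw [(show Commute y o' from (F.ctx.od o' ho' y hy).symm).mul_pow] at h1
    obtain ⟨h2, -⟩ := F.eq_of_decomp (pow_mem hy _) (one_mem _) (pow_mem ho' _) (one_mem _)
      (h1.trans (one_mul 1).symm)
    exact Odd.of_dvd_nat ⟨m, hm⟩ (orderOf_dvd_of_pow_eq_one h2)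
  have hpow : ∀ n : ℕ, (A ^ n).1 1 0 = 0 ∧ (A ^ n).1 0 0 = A.1 0 0 ^ n := by
    intro n
    induction n with
    | zero => simp
    | succ n ih =>
      rw [pow_succ, Matrix.SpecialLinearGroup.coe_mul]
      simp [Matrix.mul_apply, Fin.sum_univ_two, h10, ih.1, ih.2, pow_succ, -Matrix.SpecialLinearGroup.coe_pow]
  have hone : A.1 0 0 = 1 := by
    have hd1 := A.2
    rw [Matrix.det_fin_two, h10, h11, mul_zero, sub_zero, mul_self_eq_one_iff] at hd1
    refine hd1.resolve_right fun en => ?_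
    have h1 := (hpow (orderOf y)).2
    rw [hA, ← map_pow, show (⟨y, hd.D_le_L hq hy⟩ : ↥d.L) ^ orderOf y = 1 from Subtype.ext (pow_orderOf_eq_one y),
      map_one, ← hA, en, hyo.neg_one_pow] at h1
    exact SL2Orders.two_ne_zero_of_odd hd.odd_card (by
      have h1' : (1 : d.F) = -1 := by simpa using h1
      linear_combination h1')
  have hAp : A ^ d.p = 1 := by
    have he : A = uSL (A.1 0 1) := Subtype.ext (by
      ext i j; fin_cases i <;> fin_cases j <;> simp [coe_uSL, hone, h10, h11])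
    have key : ∀ n : ℕ, (uSL (A.1 0 1)) ^ n = uSL ((n : d.F) * A.1 0 1) := fun n => by
      induction n with
      | zero => exact Subtype.ext (by simp [coe_uSL, Matrix.one_fin_two])
      | succ n ih => rw [pow_succ, ih, Safety.uSL_mul, Nat.cast_succ, add_mul, one_mul]
    rw [he, key, CharP.cast_eq_zero, zero_mul]
    exact Subtype.ext (by simp [coe_uSL, Matrix.one_fin_two])
  have hyp : y ^ d.p = 1 := F.disjoint (pow_mem hy _) ((R.ker (⟨y, hd.D_le_L hq hy⟩ ^ d.p)).1 (by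
    rw [map_pow, ← hA, hAp]))
  obtain ⟨k, hk⟩ := F.card_O_pow hO
  refine ⟨k + 1, ?_⟩
  rw [e, (show Commute y o' from (F.ctx.od o' ho' y hy).symm).mul_pow, pow_succ', pow_mul, hyp, one_pow, one_mul,
    mul_comm, pow_mul, ← hk, show o' ^ Nat.card d.O = 1 from
      congrArg Subtype.val (pow_card_eq_one' (x := (⟨o', ho'⟩ : ↥d.O))), one_pow]

/-- **The inverted part of the centraliser is abelian of order prime to `p`.** -/
theorem unip_comm (hO : ∀ r : ℕ, r.Prime → r ∣ Nat.card d.O → r = d.p) (hpO : d.p ∣ Nat.card d.O)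
    {e e' : G} (he : Commute e (x * o)) (heo : Odd (orderOf e)) (hei : d.z * e * d.z⁻¹ = e⁻¹)
    (he' : Commute e' (x * o)) (heo' : Odd (orderOf e')) (hei' : d.z * e' * d.z⁻¹ = e'⁻¹) :
    e * e' = e' * e ∧ (orderOf e).Coprime d.p := by
  have hd := F.ctx.spec
  haveI : Fact d.p.Prime := ⟨hd.prime⟩
  set H := Subgroup.centralizer ({x * o} : Set G) with hH
  have hmemH : ∀ {b : G}, Commute b (x * o) → b ∈ H := fun hb => Subgroup.mem_centralizer_singleton_iff.2 hb.eq
  have hzH : d.z ∈ H := hmemH (Frame.Spec.z_central (mul_mem (d.D_le hx) (d.O_le ho))).symm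
  have hiso : ∀ v ∈ H, v ∈ d.C → orderOf v = 2 → v = d.z := fun v hv hvC hv2 =>
    F.unip_iso R ha hx hπ ho hv hvC hv2
  have hOH : d.O ≤ H := fun b hb => hmemH (Commute.mul_right (F.ctx.od b hb x hx) (F.O_comm hb ho))
  set X := coreIn H with hX
  have hXodd : ∀ b ∈ X, Odd (orderOf b) := fun b hb =>
    (coreIn_odd H).of_dvd_nat (Subgroup.orderOf_dvd_natCard _ hb)
  obtain ⟨a₁, ha₁⟩ := exists_prime_orderOf_dvd_card' (G := d.O) d.p hpO
  have ha1 : (a₁ : G) ≠ 1 := fun e1 => hd.prime.ne_one (by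
    rw [← ha₁, show a₁ = 1 from Subtype.ext e1, orderOf_one])
  set aX : ↥X := ⟨a₁, F.O_le_core hzH hiso hOH a₁.2⟩
  set P₀ : Subgroup ↥X := d.C.subgroupOf X with hP₀
  have hP₀p : IsPGroup d.p ↥P₀ := fun c => by
    obtain ⟨k, hk⟩ := F.unip_fixed R ha hx hπ ho hO (c := ((c : ↥X) : G)) c.2 (hXodd _ (c : ↥X).2)
      (Subgroup.mem_centralizer_singleton_iff.1 (coreIn_le H (c : ↥X).2))
    exact ⟨k, Subtype.ext (Subtype.ext hk)⟩
  obtain ⟨Q, hQ⟩ := hP₀p.exists_le_sylow
  have haQ : aX ∈ (Q : Subgroup ↥X) := hQ (show (a₁ : G) ∈ d.C from d.O_le a₁.2)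
  have hQcomm : ∀ s ∈ (Q : Subgroup ↥X), ∀ t ∈ (Q : Subgroup ↥X), (s : G) * t = t * s := fun s hs t ht =>
    F.rgroup_comm hpO (Q.2.map X.subtype) ⟨s, hs, rfl⟩ ⟨t, ht, rfl⟩
  have hQC : ∀ s ∈ (Q : Subgroup ↥X), (s : G) ∈ d.C := fun s hs =>
    F.cent a₁ a₁.2 ha1 (Subgroup.mem_centralizer_singleton_iff.2 (hQcomm s hs aX haQ))
  have hN : Subgroup.normalizer (Q : Set ↥X) ≤ Subgroup.centralizer (Q : Set ↥X) := by
    intro n hn
    have hnQ : n ∈ (Q : Subgroup ↥X) := by
      refine hQ ?_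
      set m : G := (n : G)⁻¹ * (d.z * (n : G) * d.z⁻¹) with hm
      have hmX : m ∈ X := mul_mem (inv_mem n.2) (coreIn_conj hzH n.2)
      have hconj : ∀ t ∈ (Q : Subgroup ↥X), (n : G) * t * (n : G)⁻¹ ∈ d.C := fun t ht =>
        hQC (n * t * n⁻¹) ((Subgroup.mem_normalizer_iff.1 hn t).1 ht)
      have hma : Commute m (a₁ : G) := by
        have h1 := hconj aX haQ
        have h2 : d.z * ((n : G) * (a₁ : G) * (n : G)⁻¹) * d.z⁻¹ = (n : G) * (a₁ : G) * (n : G)⁻¹ := by
          rw [← Frame.Spec.z_central h1, mul_inv_cancel_right]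
        have h3 : d.z⁻¹ * (a₁ : G) * d.z = a₁ := by
          rw [mul_assoc, Frame.Spec.z_central (d.O_le a₁.2), inv_mul_cancel_left]
        refine mul_inv_eq_iff_eq_mul.1 ?_
        calc m * (a₁ : G) * m⁻¹
            = (n : G)⁻¹ * (d.z * ((n : G) * (d.z⁻¹ * (a₁ : G) * d.z) * (n : G)⁻¹) * d.z⁻¹) * n := by rw [hm]; group
          _ = (n : G)⁻¹ * ((n : G) * (a₁ : G) * (n : G)⁻¹) * n := by rw [h3, h2]
          _ = _ := by group
      have hmC : m ∈ d.C := F.cent a₁ a₁.2 ha1 (Subgroup.mem_centralizer_singleton_iff.2 hma.eq)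
      have hnm : d.z * (n : G) * d.z⁻¹ = (n : G) * m := by rw [hm, mul_inv_cancel_left]
      have hm2 : m * m = 1 := by
        have hzm : d.z * m * d.z⁻¹ = m := by rw [← Frame.Spec.z_central hmC, mul_inv_cancel_right]
        have h4 : (n : G) = (n : G) * (m * m) :=
          calc (n : G) = (d.z * d.z) * (n : G) * (d.z * d.z)⁻¹ := by rw [F.zz, one_mul, inv_one, mul_one]
            _ = d.z * (d.z * (n : G) * d.z⁻¹) * d.z⁻¹ := by group
            _ = (d.z * (n : G) * d.z⁻¹) * (d.z * m * d.z⁻¹) := by conv_lhs => rw [hnm]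
                                                                  group
            _ = _ := by rw [hnm, hzm, mul_assoc]
        exact left_eq_mul.1 h4
      have hm1 : m = 1 := eq_one_of_sq_odd hm2 (hXodd m hmX)
      rw [hm1, mul_one] at hnm
      show (n : G) ∈ d.C
      exact Subgroup.mem_centralizer_singleton_iff.2 (mul_inv_eq_iff_eq_mul.1 hnm).symm
    exact Subgroup.mem_centralizer_iff.2 fun t ht => Subtype.ext (hQcomm t ht n hnQ)
  set τ := MonoidHom.transferSylow Q hN with hτ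
  set K := τ.ker with hK
  have hmemK : ∀ b : ↥X, (orderOf b).Coprime d.p → b ∈ K := fun b hb => by
    obtain ⟨k, hk⟩ := IsPGroup.iff_orderOf.1 Q.2 (τ b)
    refine orderOf_eq_one_iff.1 (Nat.eq_one_of_dvd_coprimes (hb.pow_right k) (orderOf_map_dvd τ b) (dvd_of_eq hk))
  have hKcop : ∀ b ∈ K, (orderOf b).Coprime d.p := fun b hb =>
    (Nat.Coprime.coprime_dvd_left (Subgroup.orderOf_dvd_natCard K hb) ((hd.prime.coprime_iff_not_dvd.2
      (MonoidHom.not_dvd_card_ker_transferSylow Q hN)).symm))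
  let ι : ↥X →* ↥X := ((MulAut.conj d.z).toMonoidHom.comp X.subtype).codRestrict X fun b => coreIn_conj hzH b.2
  have hιι : ∀ b, ι (ι b) = b := fun b => Subtype.ext (by
    show d.z * (d.z * (b : G) * d.z⁻¹) * d.z⁻¹ = b
    rw [show d.z * (d.z * (b : G) * d.z⁻¹) * d.z⁻¹ = (d.z * d.z) * (b : G) * (d.z * d.z)⁻¹ by group, F.zz,
      one_mul, inv_one, mul_one])
  let φ : ↥K →* ↥K := (ι.comp K.subtype).codRestrict K fun b => hmemK _ (by
    show (orderOf (ι b)).Coprime d.p
    exact (hKcop b b.2).coprime_dvd_left (orderOf_map_dvd ι (b : ↥X)))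
  have hfpf : MonoidHom.FixedPointFree φ := fun b hb => by
    have h1 : d.z * ((b : ↥X) : G) * d.z⁻¹ = ((b : ↥X) : G) := congrArg (fun y : ↥K => ((y : ↥X) : G)) hb
    have h2 : (b : ↥X) ∈ (Q : Subgroup ↥X) :=
      hQ (Subgroup.mem_centralizer_singleton_iff.2 (mul_inv_eq_iff_eq_mul.1 h1).symm)
    exact Subtype.ext (Subgroup.mem_bot.1
      ((MonoidHom.ker_transferSylow_disjoint Q hN _ Q.2).le_bot ⟨b.2, h2⟩))
  have hcomm := MonoidHom.FixedPointFree.commute_all_of_involutive hfpf fun b => Subtype.ext (hιι b)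
  have hmem : ∀ {b : G}, Commute b (x * o) → Odd (orderOf b) → d.z * b * d.z⁻¹ = b⁻¹ →
      (orderOf b).Coprime d.p ∧ ∃ hb : b ∈ X, (⟨b, hb⟩ : ↥X) ∈ K := by
    intro b hb hbo hbi
    have hbH := hmemH hb
    have hcop : (orderOf b).Coprime d.p := Nat.Coprime.symm (hd.prime.coprime_iff_not_dvd.2 fun hdv => by
      have hy := orderOf_pow_orderOf_div (orderOf_pos b).ne' hdv
      have h1 := F.inverted_eq_one hzH hiso hOH hpO (pow_mem hbH (orderOf b / d.p)) (k := 1)
        (by rw [pow_one]; exact orderOf_dvd_iff_pow_eq_one.1 (dvd_of_eq hy))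
        (by rw [← conj_pow, hbi, inv_pow])
      rw [h1, orderOf_one] at hy
      exact hd.prime.ne_one hy.symm)
    exact ⟨hcop, F.mem_core hzH hiso hbH hbo hbi, hmemK _ (by rw [Subgroup.orderOf_mk]; exact hcop)⟩
  obtain ⟨hc, h1, h1'⟩ := hmem he heo hei
  obtain ⟨-, h2, h2'⟩ := hmem he' heo' hei'
  exact ⟨congrArg (fun y : ↥K => ((y : ↥X) : G)) (hcomm ⟨_, h1'⟩ ⟨_, h2'⟩).eq, hc⟩

end

end L4.Flat

end CfsgLib.RankTwoModel
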